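import Cfsg.Agent.Lib.Invol.CIT.Basic

/-!
# Groups in which no prime divides three element orders

The shape of the element orders and the inheritance of the property.
-/

set_option autoImplicit false
set_option linter.unusedSectionVars false

namespace CfsgLib.Recog.ThreeOrders

open Subgroup CfsgLib.Invol.CIT

universe u

variable {G : Type u} [Group G] [Finite G]

/-- No prime divides three distinct element orders. -/
def H3 (G : Type u) [Group G] : Prop :=
  ∀ p : ℕ, p.Prime → ∀ a b c : G, orderOf a ≠ orderOf b → orderOf b ≠ orderOf c →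
    orderOf a ≠ orderOf c → ¬ (p ∣ orderOf a ∧ p ∣ orderOf b ∧ p ∣ orderOf c)

theorem H3.not_three (h : H3 G) {p : ℕ} (hp : p.Prime) {a b c : ℕ} (hab : a ≠ b) (hbc : b ≠ c)
    (hac : a ≠ c) (ha : ∃ x : G, orderOf x = a) (hb : ∃ x : G, orderOf x = b)
    (hc : ∃ x : G, orderOf x = c) (hpa : p ∣ a) (hpb : p ∣ b) (hpc : p ∣ c) : False := by
  obtain ⟨x, rfl⟩ := ha
  obtain ⟨y, rfl⟩ := hb
  obtain ⟨z, rfl⟩ := hc
  exact h p hp x y z hab hbc hac ⟨hpa, hpb, hpc⟩

/-- Every divisor of an element order is an element order. -/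
theorem exists_orderOf_of_dvd {x : G} {d : ℕ} (hd : d ∣ orderOf x) : ∃ y : G, orderOf y = d :=
  ⟨x ^ (orderOf x / d), orderOf_pow_orderOf_div (orderOf_pos x).ne' hd⟩

/-- An element order is `1`, a prime or a product of two primes. -/
theorem H3.shape (h : H3 G) {x : G} {p : ℕ} (hp : p.Prime) (hd : p ∣ orderOf x) :
    orderOf x = p ∨ ∃ r : ℕ, r.Prime ∧ orderOf x = p * r := by
  obtain ⟨m, hm⟩ := hd
  rcases eq_or_ne m 1 with rfl | hm1
  · exact Or.inl (by rw [hm, mul_one])
  have hm0 : m ≠ 0 := fun e => (orderOf_pos x).ne' (by rw [hm, e, mul_zero])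
  obtain ⟨r, hr, hrm⟩ := Nat.exists_prime_and_dvd hm1
  refine Or.inr ⟨r, hr, ?_⟩
  by_contra hne
  refine h.not_three hp (a := p) (b := p * r) (c := p * m) ?_ ?_ ?_
    (exists_orderOf_of_dvd ⟨m, hm⟩) (exists_orderOf_of_dvd (hm ▸ mul_dvd_mul_left p hrm)) ⟨x, hm⟩
    dvd_rfl (dvd_mul_right _ _) (dvd_mul_right _ _)
  · have := hr.one_lt
    have := hp.pos
    nlinarith
  · exact fun e => hne (hm.trans e.symm)
  · intro e
    exact hm1 (Nat.eq_of_mul_eq_mul_left hp.pos (e.symm.trans (mul_one p).symm))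

theorem H3.length_le (h : H3 G) {x : G} {m : ℕ} (hm : orderOf x = m) :
    m.primeFactorsList.length ≤ 2 := by
  subst hm
  rcases eq_or_ne (orderOf x) 1 with e | e
  · simp [e]
  obtain ⟨p, hp, hd⟩ := Nat.exists_prime_and_dvd e
  rcases h.shape hp hd with e' | ⟨r, hr, e'⟩
  · rw [e', Nat.primeFactorsList_prime hp]
    simp
  · rw [e', (Nat.perm_primeFactorsList_mul hp.ne_zero hr.ne_zero).length_eq, List.length_append,
      Nat.primeFactorsList_prime hp, Nat.primeFactorsList_prime hr]
    simp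

theorem H3.of_injective {K : Type*} [Group K] (h : H3 G) (f : K →* G) (hf : Function.Injective f) :
    H3 K := fun p hp a b c h1 h2 h3 hd =>
  h p hp (f a) (f b) (f c) (by rwa [orderOf_injective f hf, orderOf_injective f hf])
    (by rwa [orderOf_injective f hf, orderOf_injective f hf])
    (by rwa [orderOf_injective f hf, orderOf_injective f hf])
    (by rwa [orderOf_injective f hf, orderOf_injective f hf, orderOf_injective f hf])

theorem H3.subgroup (h : H3 G) (K : Subgroup G) : H3 K :=
  h.of_injective K.subtype K.subtype_injective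

theorem H3.of_surjective {K : Type*} [Group K] (h : H3 G) (f : G →* K) (hf : Function.Surjective f) :
    H3 K := by
  intro p hp a b c h1 h2 h3 hd
  have lift : ∀ k : K, ∃ g : G, orderOf g = orderOf k := fun k => by
    obtain ⟨g, rfl⟩ := hf k
    exact exists_orderOf_of_dvd (orderOf_map_dvd f g)
  obtain ⟨x, hx⟩ := lift a
  obtain ⟨y, hy⟩ := lift b
  obtain ⟨z, hz⟩ := lift c
  exact h p hp x y z (by rwa [hx, hy]) (by rwa [hy, hz]) (by rwa [hx, hz]) (by rwa [hx, hy, hz])

theorem H3.quotient (h : H3 G) (N : Subgroup G) [N.Normal] : H3 (G ⧸ N) :=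
  h.of_surjective _ (QuotientGroup.mk'_surjective N)

/-- The orders divisible by two beside the second one. -/
theorem H3.two_orders (h : H3 G) {x y t : G} (ht : orderOf t = 2) (hx : 2 ∣ orderOf x)
    (hy : 2 ∣ orderOf y) (hx2 : orderOf x ≠ 2) (hy2 : orderOf y ≠ 2) : orderOf x = orderOf y := by
  by_contra hne
  exact h.not_three Nat.prime_two (Ne.symm hx2) hne (Ne.symm hy2) ⟨t, ht⟩ ⟨x, rfl⟩ ⟨y, rfl⟩
    dvd_rfl hx hy

/-- An element of order four forces 2-group involution centralisers. -/
theorem H3.cit_of_four (h : H3 G) {z : G} (hz : orderOf z = 4) : IsCIT G := by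
  intro t ht
  by_contra hn
  obtain ⟨s, hs, hs2, hd⟩ : ∃ s : ℕ, s.Prime ∧ s ≠ 2 ∧ s ∣ Nat.card ↥(centralizer ({t} : Set G)) := by
    by_contra! hall
    exact hn (IsPGroup.of_card (n := (Nat.card ↥(centralizer ({t} : Set G))).primeFactorsList.length)
      (Nat.eq_prime_pow_of_unique_prime_dvd Nat.card_pos.ne' fun {d} hd hdd => by
        by_contra hd2
        exact hall d hd hd2 hdd))
  haveI := Fact.mk hs
  obtain ⟨x, hx⟩ := exists_prime_orderOf_dvd_card' (G := centralizer ({t} : Set G)) s hd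
  rw [← Subgroup.orderOf_coe] at hx
  have hcop : Nat.Coprime (orderOf (x : G)) (orderOf t) := by
    rw [hx, ht]
    exact (Nat.coprime_primes hs Nat.prime_two).2 hs2
  have hxt : orderOf ((x : G) * t) = s * 2 := by
    rw [Commute.orderOf_mul_eq_mul_orderOf_of_coprime (mem_centralizer_singleton_iff.1 x.2) hcop, hx, ht]
  have := h.two_orders ht (x := z) (y := (x : G) * t) (hz ▸ by norm_num) (hxt ▸ dvd_mul_left 2 s)
    (by omega) (by have := hs.two_le; omega)
  omega

end CfsgLib.Recog.ThreeOrders
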