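import Cfsg.Agent.Lib.Recog.ThreeOrders.Socle
import Cfsg.Agent.Lib.Recog.ThreeOrders.Basic
import Cfsg.Agent.Lib.Invol.BrauerSuzuki
import Cfsg.Agent.Lib.Recog.GenDihedral.Socle
import Cfsg.Agent.Lib.Solvable.PCore

/-!
# Nonsolvable groups in which involution centralisers are 2-groups
-/

set_option autoImplicit false
set_option linter.unusedSectionVars false
set_option linter.style.haveILetI false

namespace CfsgLib.Recog.ThreeOrders

open Subgroup CfsgLib.Invol CfsgLib.Invol.CIT

universe u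

variable {G : Type u} [Group G] [Finite G]

theorem ics_of_cit (h : IsCIT G) : IsICS G := fun t ht => by
  haveI : Fact (Nat.Prime 2) := ⟨Nat.prime_two⟩
  have := (h t ht).isNilpotent
  infer_instance

theorem odd_eq_bot_of_cit (hns : ¬ Group.IsSolvable G) (h : IsCIT G) {N : Subgroup G} (hN : N.Normal)
    (hodd : Odd (Nat.card N)) : N = ⊥ := by
  by_contra hne
  obtain ⟨z, hz⟩ : ∃ z : G, orderOf z = 2 := by
    haveI : Fact (Nat.Prime 2) := ⟨Nat.prime_two⟩
    refine exists_prime_orderOf_dvd_card' (G := G) 2 ?_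
    by_contra h2
    exact hns (CfsgLib.FT.odd_order_solvable (Nat.not_even_iff_odd.1
      fun he => h2 (even_iff_two_dvd.1 he)))
  have hiso : Cfsg.IsIsolatedInvolution z := ⟨hz, fun g hg =>
    h.invol_eq_of_odd_normal hne hodd ((orderOf_conj_eq g z).trans hz) hz hg.symm⟩
  haveI : (Cfsg.oddCore G).Normal := CfsgLib.Solvable.pPrimeCore_normal 2 G
  have hO := odd_card_oddCore G
  have hsurj : Function.Surjective
      ((QuotientGroup.mk' (Cfsg.oddCore G)).comp (centralizer ({z} : Set G)).subtype) := by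
    intro q
    obtain ⟨g, rfl⟩ := QuotientGroup.mk'_surjective _ q
    obtain ⟨k, hk, hkg⟩ := CfsgLib.Recog.GenDihedral.lift_centralizer hO hz (x := g)
      (by simpa [mul_assoc] using inv_mem (zstar G hiso g))
    refine ⟨⟨k * g, hkg⟩, ?_⟩
    show QuotientGroup.mk' (Cfsg.oddCore G) (k * g) = QuotientGroup.mk' _ g
    rw [map_mul, QuotientGroup.mk'_apply _ k, (QuotientGroup.eq_one_iff k).2 hk, one_mul]
  have := ics_of_cit h z hz
  have : Group.IsSolvable (G ⧸ Cfsg.oddCore G) := Group.isSolvable_of_surjective hsurj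
  have : Group.IsSolvable (Cfsg.oddCore G) := CfsgLib.FT.odd_order_solvable hO
  exact hns (Group.isSolvable_of_ker_le_range (Cfsg.oddCore G).subtype
    (QuotientGroup.mk' (Cfsg.oddCore G)) (by rw [QuotientGroup.ker_mk', Subgroup.range_subtype]))

theorem rad_eq_bot (hodd : ∀ N : Subgroup G, N.Normal → Odd (Nat.card N) → N = ⊥)
    (htwo : ∀ N : Subgroup G, N.Normal → IsPGroup 2 N → N = ⊥) (N : Subgroup G) (hN : N.Normal)
    (hs : Group.IsSolvable N) : N = ⊥ := by
  by_contra hne
  obtain ⟨K, hKn, hK1, hKN, hmin⟩ := CfsgLib.Solvable.exists_minimal_normal_le hN hne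
  haveI := hKn
  haveI : Group.IsSolvable K := Group.isSolvable_of_isSolvable_injective (inclusion_injective hKN)
  obtain ⟨p, hp, hKp, -, -⟩ := CfsgLib.Solvable.exists_isPGroup_of_minimal_normal hK1 hmin
  haveI := Fact.mk hp
  obtain ⟨k, hk⟩ := hKp.exists_card_eq
  rcases hp.eq_two_or_odd' with rfl | hpo
  · exact hK1 (htwo K hKn hKp)
  · exact hK1 (hodd K hKn (hk ▸ hpo.pow))

/-- The quotient of a nonsolvable group by its largest normal 2-subgroup has a simple socle. -/
theorem quot_socle (hns : ¬ Group.IsSolvable G) (h : IsCIT G) (R : Subgroup G) [R.Normal]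
    (hR : R = Cfsg.pCore 2 G) :
    ¬ Group.IsSolvable (G ⧸ R) ∧ IsCIT (G ⧸ R) ∧ ∃ M : Subgroup (G ⧸ R), M.Normal ∧ IsSimpleGroup M ∧
      ¬ Group.IsSolvable M ∧ centralizer (M : Set (G ⧸ R)) = ⊥ := by
  haveI : Fact (Nat.Prime 2) := ⟨Nat.prime_two⟩
  have hR2 : IsPGroup 2 R := hR ▸ CfsgLib.Solvable.pCore_isPGroup 2
  have hns' : ¬ Group.IsSolvable (G ⧸ R) := fun hs => by
    have := hR2.isNilpotent
    exact hns (Group.isSolvable_of_ker_le_range R.subtype (QuotientGroup.mk' R)
      (by rw [QuotientGroup.ker_mk', Subgroup.range_subtype]))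
  have hX : IsCIT (G ⧸ R) := h.quotient R hR2
  refine ⟨hns', hX, exists_socle hns' (ics_of_cit hX) (rad_eq_bot (fun N hN ho =>
    odd_eq_bot_of_cit hns' hX hN ho) fun N hN hN2 => ?_)⟩
  have hle : N.comap (QuotientGroup.mk' R) ≤ R := by
    conv_rhs => rw [hR]
    refine CfsgLib.Solvable.le_pCore (hN.comap _) (hN2.comap_of_ker_isPGroup _ ?_)
    rwa [QuotientGroup.ker_mk']
  refine (Subgroup.eq_bot_iff_forall _).2 fun x hx => ?_
  obtain ⟨g, rfl⟩ := QuotientGroup.mk'_surjective R x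
  exact (QuotientGroup.eq_one_iff g).2 (hle hx)

end CfsgLib.Recog.ThreeOrders
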