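import Cfsg.Agent.Lib.Recog.ThreeOrders.Extension
import Cfsg.Agent.Lib.Invol.L34Parabolic

/-!
# No proper extension of `PSL(3, 4)` has 2-group involution centralisers
-/

set_option autoImplicit false
set_option linter.unusedSectionVars false
set_option linter.style.haveILetI false

namespace CfsgLib.Recog.ThreeOrders

open Matrix CfsgLib.KnownC CfsgLib.Invol.CIT
open scoped MatrixGroups

universe u

variable {X : Type u} [Group X] [Finite X] {F : Type*} [Field F] [Fintype F]

local notation "P3" => Matrix.ProjectiveSpecialLinearGroup (Fin 3) F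

theorem semiAut_mk_of_mul {g : GL (Fin 3) F} {σ : F ≃+* F} {s s' : SL(3, F)}
    (h : g.1 * s.1.map σ = s'.1 * g.1) :
    semiAut g σ (QuotientGroup.mk s) = QuotientGroup.mk s' := by
  rw [semiAut_mk]
  refine congrArg _ (Subtype.ext ?_)
  rw [slConj_coe, slField_coe, h, mul_assoc, Units.mul_inv, mul_one]

theorem psl_three_top (hc : IsCIT X) {M : Subgroup X} (hF : Fintype.card F = 4) (A : Act M P3) :
    M = ⊤ := by
  classical
  haveI : Fact (Nat.Prime 2) := ⟨Nat.prime_two⟩
  haveI : Fact (Nat.Prime 3) := ⟨Nat.prime_three⟩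
  haveI : CharP F 2 := charP_of_card_eq_prime_pow (f := 2) (hF.trans (by norm_num))
  have h2 : (2 : F) = 0 := CharTwo.two_eq_zero
  refine Subgroup.eq_top_iff' _ |>.2 fun x => ?_
  let s : SL(3, F) := ⟨!![1, 0, 0; 0, 0, 1; 0, 1, 0], by
    simp [Matrix.det_fin_three, CharTwo.neg_eq]⟩
  let w : SL(3, F) := ⟨!![1, 0, 0; 0, 0, 1; 0, 1, 1], by
    simp [Matrix.det_fin_three, CharTwo.neg_eq]⟩
  let w' : SL(3, F) := ⟨!![1, 0, 0; 0, 1, 1; 0, 1, 0], by
    simp [Matrix.det_fin_three, CharTwo.neg_eq]⟩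
  have hne : ∀ {m : SL(3, F)}, m.1 1 2 ≠ 0 → (QuotientGroup.mk m : P3) ≠ 1 := by
    intro m hm e
    have e' : (QuotientGroup.mk (1 : SL(3, F)) : P3) = QuotientGroup.mk m :=
      (QuotientGroup.mk_one _).trans e.symm
    obtain ⟨r, hr⟩ := CfsgLib.Invol.L34Parabolic.exists_smul_of_mk_eq e'
    rw [hr, Matrix.smul_apply, Matrix.SpecialLinearGroup.coe_one, Matrix.one_apply_ne (by decide),
      smul_zero] at hm
    exact hm rfl
  have hs2 : orderOf (QuotientGroup.mk s : P3) = 2 := by
    refine orderOf_eq_prime ?_ (hne (by simp [s]))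
    rw [← QuotientGroup.mk_pow, show s ^ 2 = 1 from Subtype.ext (by
      rw [pow_two, Matrix.SpecialLinearGroup.coe_mul]
      ext i j
      fin_cases i <;> fin_cases j <;> simp [s, Matrix.mul_apply, Fin.sum_univ_three]),
      QuotientGroup.mk_one]
  have hw3 : orderOf (QuotientGroup.mk w : P3) = 3 := by
    refine orderOf_eq_prime ?_ (hne (by simp [w]))
    rw [← QuotientGroup.mk_pow, show w ^ 3 = 1 from Subtype.ext (by
      rw [pow_three, Matrix.SpecialLinearGroup.coe_mul, Matrix.SpecialLinearGroup.coe_mul]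
      ext i j
      fin_cases i <;> fin_cases j <;> simp [w, Matrix.mul_apply, Fin.sum_univ_three, one_add_one_eq_two,
        h2]),
      QuotientGroup.mk_one]
  have his : itAut (QuotientGroup.mk s : P3) = QuotientGroup.mk s := by
    refine congrArg QuotientGroup.mk (Subtype.ext ?_)
    show (s⁻¹).1.transpose = _
    rw [show s⁻¹ = s from inv_eq_of_mul_eq_one_right (Subtype.ext (by
      rw [Matrix.SpecialLinearGroup.coe_mul]
      ext i j
      fin_cases i <;> fin_cases j <;> simp [s, Matrix.mul_apply, Fin.sum_univ_three]))]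
    ext i j
    fin_cases i <;> fin_cases j <;> simp [s]
  have hiw : itAut (QuotientGroup.mk w : P3) = QuotientGroup.mk w' := by
    refine congrArg QuotientGroup.mk (Subtype.ext ?_)
    show (w⁻¹).1.transpose = _
    rw [show w⁻¹ = w' from inv_eq_of_mul_eq_one_right (Subtype.ext (by
      rw [Matrix.SpecialLinearGroup.coe_mul]
      ext i j
      fin_cases i <;> fin_cases j <;> simp [w, w', Matrix.mul_apply, Fin.sum_univ_three,
        one_add_one_eq_two, h2]))]
    ext i j
    fin_cases i <;> fin_cases j <;> simp [w']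
  have key : ∀ {v : X}, A.ψ v (QuotientGroup.mk s) = QuotientGroup.mk s →
      A.ψ v (QuotientGroup.mk w) = QuotientGroup.mk w → v = 1 := by
    intro v hvs hvw
    have ht : orderOf (A.e.symm (QuotientGroup.mk s) : X) = 2 := by
      rw [Subgroup.orderOf_coe, A.e.symm.orderOf_eq, hs2]
    have hw : orderOf (A.e.symm (QuotientGroup.mk w) : X) = 3 := by
      rw [Subgroup.orderOf_coe, A.e.symm.orderOf_eq, hw3]
    have h1 := hc.two_pow_of_commute (x := v)
      ⟨1, by rw [pow_one, ← ht, pow_orderOf_eq_one]⟩ (fun e => by rw [e, orderOf_one] at ht; omega)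
      (A.fix v _ (by rw [A.e.apply_symm_apply, hvs]))
    by_contra hv1
    have := hc.eq_one_of_commute (x := (A.e.symm (QuotientGroup.mk w) : X)) (by rw [hw]; decide) h1 hv1
      (A.fix v _ (by rw [A.e.apply_symm_apply, hvw])).symm
    rw [this, orderOf_one] at hw
    omega
  -- replace the linear part by one of our choice
  have shift : ∀ {g g₀ : GL (Fin 3) F} {σ : F ≃+* F} {β : MulAut P3},
      g.1.det = g₀.1.det → A.ψ x = semiAut g σ * β →
      ∃ v, A.ψ v = semiAut g₀ σ * β ∧ (v ∈ M → x ∈ M) := by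
    intro g g₀ σ β hd hx
    have hd' : GeneralLinearGroup.det g = GeneralLinearGroup.det g₀ := Units.ext hd
    obtain ⟨m, hm⟩ := exists_toGL_of_det_one (g * g₀⁻¹) (by rw [map_mul, map_inv, hd', mul_inv_cancel])
    refine A.exists_shift (p := QuotientGroup.mk m) ?_
    rw [hx, conj_eq_semiAut, hm, ← mul_assoc, semiAut_mul]
    congr 2
    exact (inv_mul_cancel_right g g₀).symm
  rcases mulAut_psl_cases (by norm_num) (A.ψ x) with ⟨g, σ, hx⟩ | ⟨-, g, σ, hx⟩
  · let g₀ : GL (Fin 3) F := GeneralLinearGroup.mk' !![g.1.det, 0, 0; 0, 1, 0; 0, 0, 1]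
      (invertibleOfNonzero (by simpa [Matrix.det_fin_three] using GeneralLinearGroup.det_ne_zero g))
    obtain ⟨v, hv, hvM⟩ := shift (g₀ := g₀) (β := 1) (σ := σ) (g := g) (by
      show _ = (!![g.1.det, 0, 0; 0, 1, 0; 0, 0, 1]).det
      simp [Matrix.det_fin_three]) (by rw [hx, mul_one])
    rw [mul_one] at hv
    suffices hh : A.ψ v (QuotientGroup.mk s) = QuotientGroup.mk s ∧
        A.ψ v (QuotientGroup.mk w) = QuotientGroup.mk w from hvM (by rw [key hh.1 hh.2]; exact one_mem M)
    constructor <;> rw [hv] <;> refine semiAut_mk_of_mul ?_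
    · show !![g.1.det, 0, 0; 0, 1, 0; 0, 0, 1] * s.1.map σ = s.1 * !![g.1.det, 0, 0; 0, 1, 0; 0, 0, 1]
      ext i j
      fin_cases i <;> fin_cases j <;> simp [s, Matrix.mul_apply, Fin.sum_univ_three]
    · show !![g.1.det, 0, 0; 0, 1, 0; 0, 0, 1] * w.1.map σ = w.1 * !![g.1.det, 0, 0; 0, 1, 0; 0, 0, 1]
      ext i j
      fin_cases i <;> fin_cases j <;> simp [w, Matrix.mul_apply, Fin.sum_univ_three]
  · let g₀ : GL (Fin 3) F := GeneralLinearGroup.mk' !![g.1.det, 0, 0; 0, 0, 1; 0, 1, 0]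
      (invertibleOfNonzero (by
        rw [Matrix.det_fin_three]
        simpa [CharTwo.neg_eq, -Matrix.det_fin_three] using GeneralLinearGroup.det_ne_zero g))
    obtain ⟨v, hv, hvM⟩ := shift (g₀ := g₀) (β := itAut) (σ := σ) (g := g) (by
      show _ = (!![g.1.det, 0, 0; 0, 0, 1; 0, 1, 0]).det
      simp [Matrix.det_fin_three, CharTwo.neg_eq]) hx
    suffices hh : A.ψ v (QuotientGroup.mk s) = QuotientGroup.mk s ∧
        A.ψ v (QuotientGroup.mk w) = QuotientGroup.mk w from hvM (by rw [key hh.1 hh.2]; exact one_mem M)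
    constructor <;> rw [hv, MulAut.mul_apply]
    · rw [his]
      refine semiAut_mk_of_mul ?_
      show !![g.1.det, 0, 0; 0, 0, 1; 0, 1, 0] * s.1.map σ = s.1 * !![g.1.det, 0, 0; 0, 0, 1; 0, 1, 0]
      ext i j
      fin_cases i <;> fin_cases j <;> simp [s, Matrix.mul_apply, Fin.sum_univ_three]
    · rw [hiw]
      refine semiAut_mk_of_mul ?_
      show !![g.1.det, 0, 0; 0, 0, 1; 0, 1, 0] * w'.1.map σ = w.1 * !![g.1.det, 0, 0; 0, 0, 1; 0, 1, 0]
      ext i j
      fin_cases i <;> fin_cases j <;> simp [w, w', Matrix.mul_apply, Fin.sum_univ_three]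

end CfsgLib.Recog.ThreeOrders
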