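import Cfsg.Agent.Lib.Recog.ThreeOrders.Extension

/-!
# No proper extension of `PSL(2, 2 ^ f)`, `PSL(2, 7)`, `PSL(2, 9)` has 2-group involution centralisers
and no prime dividing three element orders
-/

set_option autoImplicit false
set_option linter.unusedSectionVars false
set_option linter.style.haveILetI false

namespace CfsgLib.Recog.ThreeOrders

open Matrix CfsgLib.KnownC CfsgLib.Invol.CIT
open scoped MatrixGroups

universe u

variable {X : Type u} [Group X] [Finite X]

theorem not_orderOf_six (hc : IsCIT X) (x : X) : orderOf x ≠ 6 := fun h6 => by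
  have h2 : orderOf (x ^ 3) = 2 := by rw [orderOf_pow, h6]; rfl
  have h3 : orderOf (x ^ 2) = 3 := by rw [orderOf_pow, h6]; rfl
  have := hc.eq_one_of_commute_invol (x := x ^ 2) (by rw [h3]; decide) h2
    ((Commute.refl x).pow_pow 2 3)
  rw [this, orderOf_one] at h3
  omega

theorem not_orderOf_eight (h : H3 X) (x : X) : orderOf x ≠ 8 := fun h8 => by
  have := h.length_le h8
  rw [show (8 : ℕ) = 2 ^ 3 by rfl, Nat.Prime.primeFactorsList_pow Nat.prime_two,
    List.length_replicate] at this
  omega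

variable {F : Type*} [Field F] [Fintype F]

local notation "PS" => Matrix.ProjectiveSpecialLinearGroup (Fin 2) F

theorem field_part_trivial (hc : IsCIT X) {M : Subgroup X} (A : Act M PS) {v : X} {σ : F ≃+* F}
    (hv : A.ψ v = semiAut 1 σ) : v = 1 := by
  set t : X := (A.e.symm (QuotientGroup.mk (swapSL F)) : X)
  set w : X := (A.e.symm (QuotientGroup.mk (threeSL F)) : X)
  have ht : orderOf t = 2 := by
    rw [Subgroup.orderOf_coe, A.e.symm.orderOf_eq, orderOf_swap]
  have hw : orderOf w = 3 := by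
    rw [Subgroup.orderOf_coe, A.e.symm.orderOf_eq, orderOf_three]
  have hvt : Commute v t := A.fix v _ (by rw [A.e.apply_symm_apply, hv, semiAut_fix_swap])
  have hvw : Commute v w := A.fix v _ (by rw [A.e.apply_symm_apply, hv, semiAut_fix_three])
  have h2 : ∃ k, v ^ 2 ^ k = 1 := hc.two_pow_of_commute
    ⟨1, by rw [pow_one, ← ht, pow_orderOf_eq_one]⟩ (fun e => by rw [e, orderOf_one] at ht; omega) hvt
  by_contra hv1
  have := hc.eq_one_of_commute (x := w) (by rw [hw]; decide) h2 hv1 hvw.symm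
  rw [this, orderOf_one] at hw
  omega

theorem mem_of_square (hc : IsCIT X) {M : Subgroup X} (A : Act M PS) {x : X} {g : GL (Fin 2) F}
    {σ : F ≃+* F} (hx : A.ψ x = semiAut g σ) {c : Fˣ}
    (hd : GeneralLinearGroup.det g = c ^ 2) : x ∈ M := by
  obtain ⟨p, hp⟩ := exists_conj_semiAut (g₀ := 1) σ (c := c) (g := g) (by rw [map_one, mul_one, hd])
  obtain ⟨v, hv, hvM⟩ := A.exists_shift (hx.trans hp)
  exact hvM (field_part_trivial hc A hv ▸ one_mem M)

theorem psl_two_top (h : H3 X) (hc : IsCIT X) {M : Subgroup X} (A : Act M PS)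
    (hF : CharP F 2 ∨ Fintype.card F = 7 ∨ Fintype.card F = 9) : M = ⊤ := by
  classical
  refine Subgroup.eq_top_iff' _ |>.2 fun x => ?_
  rcases mulAut_psl_cases le_rfl (A.ψ x) with ⟨g, σ, hx⟩ | ⟨h3, -⟩
  swap
  · omega
  rcases hF with h2 | hq
  · have hch : ringChar F = 2 := ringChar.eq F 2
    obtain ⟨r, hr⟩ := FiniteField.isSquare_of_char_two hch ((GeneralLinearGroup.det g : Fˣ) : F)
    have hr0 : r ≠ 0 := fun e => (GeneralLinearGroup.det g).ne_zero (by rw [hr, e, mul_zero])
    exact mem_of_square hc A hx (c := Units.mk0 r hr0)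
      (Units.ext (by rw [hr, Units.val_pow_eq_pow_val, Units.val_mk0, pow_two]))
  obtain ⟨a, ha⟩ := IsCyclic.exists_generator (α := Fˣ)
  have hoa : orderOf a = Fintype.card F - 1 := by
    rw [orderOf_eq_card_of_forall_mem_zpowers ha, Nat.card_eq_fintype_card, Fintype.card_units]
  obtain ⟨k, hk⟩ := Subgroup.mem_zpowers_iff.1 (ha (GeneralLinearGroup.det g))
  rcases Int.even_or_odd' k with ⟨j, rfl | rfl⟩
  · exact mem_of_square hc A hx (c := a ^ j) (by rw [← hk, mul_comm, _root_.zpow_mul]; norm_cast)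
  have hdet : GeneralLinearGroup.det g = (a ^ j) ^ 2 * a := by
    rw [← hk, _root_.zpow_add, zpow_one, mul_comm 2 j, _root_.zpow_mul]
    norm_cast
  exfalso
  -- the automorphisms of the field
  obtain ⟨φ, hφ, hoφ, hgen⟩ : ∃ φ : F ≃+* F, (Fintype.card F = 7 → φ = 1) ∧
      (Fintype.card F = 9 → (∀ x, φ x = x ^ 3) ∧ φ * φ = 1) ∧ (σ = 1 ∨ σ = φ) := by
    rcases hq with hq | hq
    · haveI := Fact.mk (show Nat.Prime 7 by norm_num)
      obtain ⟨φ, -, ho, hg⟩ := exists_ringAut_generator (p := 7) (f := 1) (hq.trans (pow_one 7).symm)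
      obtain rfl := orderOf_eq_one_iff.1 ho
      refine ⟨1, fun _ => rfl, fun h9 => absurd h9 (by omega), Or.inl ?_⟩
      simpa using hg σ
    · obtain ⟨φ, hφ, ho, hg⟩ := exists_ringAut_generator (p := 3) (f := 2) (hq.trans (by norm_num))
      have hsq : φ * φ = 1 := by rw [← pow_two, ← ho, pow_orderOf_eq_one]
      refine ⟨φ, fun h7 => absurd h7 (by omega), fun _ => ⟨hφ, hsq⟩, ?_⟩
      obtain ⟨i, rfl⟩ := Subgroup.mem_zpowers_iff.1 (hg σ)
      rcases Int.even_or_odd' i with ⟨l, rfl | rfl⟩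
      · exact Or.inl (by rw [_root_.zpow_mul, zpow_two, hsq, _root_.one_zpow])
      · exact Or.inr (by rw [_root_.zpow_add, zpow_one, _root_.zpow_mul, zpow_two, hsq, _root_.one_zpow, one_mul])
  have hdiag : ∀ u : Fˣ, semiAut (firstDiag (n := 2) u) (RingEquiv.refl F) = 1 → u = 1 := by
    intro u hu
    have := Subgroup.mem_center_iff.1 (semiAut_eq_one_iff.1 hu)
      (SpecialLinearGroup.toGL (swapSL F))
    have h01 := congrArg (fun y : GL (Fin 2) F => y.1 0 1) this
    simp only [Units.val_mul] at h01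
    refine Units.ext ?_
    simpa [firstDiag, swapSL, Matrix.mul_apply, Fin.sum_univ_two,
      Matrix.SpecialLinearGroup.toGL] using h01.symm
  by_cases hσ : σ = 1
  · subst hσ
    obtain ⟨p, hp⟩ := exists_conj_semiAut (g₀ := firstDiag (n := 2) a) (1 : F ≃+* F) (c := a ^ j)
      (g := g) (by rw [det_firstDiag, hdet])
    obtain ⟨v, hv, -⟩ := A.exists_shift (hx.trans hp)
    have hord : orderOf v = Fintype.card F - 1 := by
      rw [A.orderOf_eq, hv, ← hoa]
      refine orderOf_eq_orderOf_iff.2 fun k => ?_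
      rw [show (1 : F ≃+* F) = RingEquiv.refl F from rfl, semiAut_refl_pow, ← map_pow]
      exact ⟨hdiag _, fun e => by rw [e, map_one, semiAut_one]⟩
    rcases hq with hq | hq <;> rw [hq] at hord
    · exact not_orderOf_six hc v hord
    · exact not_orderOf_eight h v hord
  rcases hgen with e | rfl
  · exact hσ e
  rcases hq with hq | hq
  · exact hσ (hφ hq)
  obtain ⟨hσ3, hσ2⟩ := hoφ hq
  -- a matrix with non-square determinant
  have hm1 : ∃ c : Fˣ, c ^ 2 = -1 := by
    refine ⟨a ^ 2, ?_⟩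
    have h4 : a ^ 4 ≠ 1 := fun e => by
      have := orderOf_dvd_of_pow_eq_one e
      rw [hoa, hq] at this
      norm_num at this
    have h8 : ((a : F) ^ 4 - 1) * ((a : F) ^ 4 + 1) = 0 := by
      have := congrArg Units.val (pow_orderOf_eq_one a)
      rw [hoa, hq, Units.val_pow_eq_pow_val, Units.val_one] at this
      linear_combination this
    refine Units.ext ?_
    rcases mul_eq_zero.1 h8 with e | e
    · exact absurd (Units.ext (by rw [Units.val_pow_eq_pow_val, Units.val_one]; linear_combination e)) h4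
    · rw [Units.val_pow_eq_pow_val, Units.val_pow_eq_pow_val, Units.val_neg, Units.val_one]
      linear_combination e
  obtain ⟨c, hc1⟩ := hm1
  let g₀ : GL (Fin 2) F := GeneralLinearGroup.mk' !![0, (a : F); 1, 0]
    (invertibleOfNonzero (by simp [Matrix.det_fin_two]))
  have hg₀ : GeneralLinearGroup.det g₀ = c ^ 2 * a := by
    rw [hc1]
    refine Units.ext ?_
    show (!![0, (a : F); 1, 0]).det = _
    simp [Matrix.det_fin_two]
  obtain ⟨p, hp⟩ := exists_conj_semiAut (g₀ := g₀) σ (c := a ^ j * c⁻¹) (g := g)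
    (by rw [hg₀, hdet, mul_pow, mul_assoc, inv_pow, inv_mul_cancel_left])
  obtain ⟨v, hv, -⟩ := A.exists_shift (hx.trans hp)
  refine not_orderOf_eight h v ?_
  -- the square of `v` induces `diag (a, σ a)`
  set d : GL (Fin 2) F := g₀ * GeneralLinearGroup.map (σ : F →+* F) g₀
  have hd : d.1 = Matrix.diagonal ![(a : F), (a : F) ^ 3] := by
    show (!![0, (a : F); 1, 0]) * (!![0, (a : F); 1, 0]).map (σ : F →+* F) = _
    ext i j
    fin_cases i <;> fin_cases j <;> simp [Matrix.mul_apply, hσ3]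
  have hpow : ∀ k, A.ψ (v ^ (2 * k)) = semiAut (d ^ k) (RingEquiv.refl F) := fun k => by
    rw [map_pow, pow_mul, pow_two, hv, semiAut_mul, hσ2]
    exact semiAut_refl_pow d k
  haveI : Fact (Nat.Prime 2) := ⟨Nat.prime_two⟩
  have hcent : ∀ k, d ^ k ∈ Subgroup.center (GL (Fin 2) F) ↔ (a : F) ^ k = ((a : F) ^ 3) ^ k := by
    intro k
    have hdk : (d ^ k).1 = Matrix.diagonal ![(a : F) ^ k, ((a : F) ^ 3) ^ k] := by
      rw [Units.val_pow_eq_pow_val, hd, Matrix.diagonal_pow]
      congr 1
      ext i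
      fin_cases i <;> simp
    constructor
    · intro hcen
      have := Subgroup.mem_center_iff.1 hcen (SpecialLinearGroup.toGL (swapSL F))
      have h01 := congrArg (fun y : GL (Fin 2) F => y.1 0 1) this
      simp only [Units.val_mul, hdk] at h01
      simpa [swapSL, Matrix.mul_apply, Fin.sum_univ_two, Matrix.SpecialLinearGroup.toGL] using
        h01.symm
    · intro e
      refine Subgroup.mem_center_iff.2 fun y => Units.ext ?_
      rw [Units.val_mul, Units.val_mul, hdk, ← e]
      ext i j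
      fin_cases i <;> fin_cases j <;> simp [Matrix.mul_apply, Fin.sum_univ_two, mul_comm]
  have hiff : ∀ k, v ^ (2 * k) = 1 ↔ (a : F) ^ k = ((a : F) ^ 3) ^ k := fun k => by
    rw [← hcent, ← semiAut_eq_one_iff, ← hpow, map_eq_one_iff _ A.inj]
  have h8 : (a : F) ^ 8 = 1 := by
    have := congrArg Units.val (pow_orderOf_eq_one a)
    rw [hoa, hq, Units.val_pow_eq_pow_val, Units.val_one] at this
    exact this
  show orderOf v = 2 ^ (2 + 1)
  refine orderOf_eq_prime_pow (fun e => ?_) ((hiff 4).2 ?_)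
  · have h2 := (hiff 2).1 e
    have h4 : (a : F) ^ 4 = 1 :=
      mul_left_cancel₀ (pow_ne_zero 2 a.ne_zero) (by linear_combination -h2)
    have := orderOf_dvd_of_pow_eq_one (x := a) (n := 4) (Units.ext (by
      rw [Units.val_pow_eq_pow_val, Units.val_one, h4]))
    rw [hoa, hq] at this
    norm_num at this
  · linear_combination (- (a : F) ^ 4) * h8

end CfsgLib.Recog.ThreeOrders
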