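import Cfsg.Agent.Lib.Recog.ThreeOrders.Basic
import Cfsg.Agent.Lib.Recog.EPPOSimple.Simple
import Cfsg.Agent.Lib.Invol.CIT.Main
import Cfsg.Agent.Lib.Suzuki.Action

/-!
# The simple groups with 2-group involution centralisers and no prime dividing three element orders
-/

set_option autoImplicit false
set_option linter.unusedSectionVars false
set_option linter.style.haveILetI false

namespace CfsgLib.Recog.ThreeOrders

open CfsgLib.Invol.CIT

universe u

variable (M : Type u) [Group M]

/-- `PSL(2, 2 ^ f)`. -/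
def IsEvenPSL : Prop :=
  ∃ (F : Type) (_ : Field F) (_ : Fintype F), CharP F 2 ∧ 4 ≤ Fintype.card F ∧
    (Fintype.card F + 1).primeFactorsList.length ≤ 2 ∧ (Fintype.card F - 1).primeFactorsList.length ≤ 2 ∧
    Nonempty (M ≃* Matrix.ProjectiveSpecialLinearGroup (Fin 2) F)

/-- `PSL(2, 7)` or `PSL(2, 9)`. -/
def IsSevenNinePSL : Prop :=
  ∃ (F : Type) (_ : Field F) (_ : Fintype F), (Fintype.card F = 7 ∨ Fintype.card F = 9) ∧
    Nonempty (M ≃* Matrix.ProjectiveSpecialLinearGroup (Fin 2) F)

/-- `PSL(3, 4)`. -/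
def IsThreeFour : Prop :=
  ∃ (F : Type) (_ : Field F) (_ : Fintype F), Fintype.card F = 4 ∧
    Nonempty (M ≃* Matrix.ProjectiveSpecialLinearGroup (Fin 3) F)

/-- A Suzuki group. -/
def IsSmallSuzuki : Prop :=
  ∃ (F : Type) (_ : Field F) (_ : Fintype F) (m : ℕ), 1 ≤ m ∧ Fintype.card F = 2 ^ (2 * m + 1) ∧
    (2 ^ (2 * m + 1) - 1).primeFactorsList.length ≤ 2 ∧
    (2 ^ (2 * m + 1) - 2 ^ (m + 1) + 1).primeFactorsList.length ≤ 2 ∧
    (2 ^ (2 * m + 1) + 2 ^ (m + 1) + 1).primeFactorsList.length ≤ 2 ∧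
    Nonempty (M ≃* Cfsg.Sz F m)

variable {M} [Finite M] [IsSimpleGroup M]

theorem cit_simple (hM : ¬ Group.IsSolvable M) (h : H3 M) (hc : IsCIT M) :
    IsEvenPSL M ∨ IsSevenNinePSL M ∨ IsThreeFour M ∨ IsSmallSuzuki M := by
  classical
  haveI := Fact.mk Nat.prime_two
  have hna : ¬ IsMulCommutative M := fun hh => hM (Group.isSolvable_of_comm hh.is_comm.comm)
  have hna' : ∃ a b : M, a * b ≠ b * a := by
    by_contra hh
    push Not at hh
    exact hna ⟨⟨hh⟩⟩
  rcases classification hna' hc with ⟨F, _, _, hF, ⟨e⟩⟩ | h34 | ⟨-, F, _, _, m, hm, hF, ⟨e⟩⟩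
  · have hP : H3 (Matrix.ProjectiveSpecialLinearGroup (Fin 2) F) :=
      h.of_injective e.symm.toMonoidHom e.symm.injective
    have hcard : Nat.card M = Nat.card (Matrix.ProjectiveSpecialLinearGroup (Fin 2) F) :=
      Nat.card_congr e.toEquiv
    have h4 : 4 ≤ Fintype.card F := by
      by_contra hlt
      have h1 : 1 < Fintype.card F := Fintype.one_lt_card
      obtain ⟨h6, h12⟩ := EPPOSimple.not_card_six_or_twelve hna
      rcases (show Fintype.card F = 2 ∨ Fintype.card F = 3 by omega) with hq | hq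
      · exact h6 (hcard.trans (CfsgLib.Classical.card_psl_two_eq hq 6 (by decide)))
      · exact h12 (hcard.trans (CfsgLib.Classical.card_psl_two_eq hq 12 (by decide)))
    have heven : ∀ {K : Type} [Field K] [Fintype K] {n : ℕ}, 4 ≤ Fintype.card K →
        Fintype.card K = 2 ^ n → H3 (Matrix.ProjectiveSpecialLinearGroup (Fin 2) K) →
        Nonempty (M ≃* Matrix.ProjectiveSpecialLinearGroup (Fin 2) K) → IsEvenPSL M := by
      intro K _ _ n h4 hq hK he
      haveI : CharP K 2 := charP_of_card_eq_prime_pow hq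
      have hd : Nat.gcd 2 (Fintype.card K - 1) = 1 := by
        refine Nat.prime_two.coprime_iff_not_dvd.2 ?_
        have : 2 ∣ 2 ^ n := dvd_pow_self 2 (by rintro rfl; rw [pow_zero] at hq; omega)
        omega
      obtain ⟨g, hg⟩ := CfsgLib.KnownB.SL2.exists_orderOf_psl (F := K) 2 (m := Fintype.card K - 1)
        (Or.inr (Or.inl (by rw [hd, Nat.div_one])))
      obtain ⟨g', hg'⟩ := CfsgLib.KnownB.SL2.exists_orderOf_psl (F := K) 2 (m := Fintype.card K + 1)
        (Or.inr (Or.inr (by rw [hd, Nat.div_one])))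
      exact ⟨K, inferInstance, inferInstance, inferInstance, h4, hK.length_le hg', hK.length_le hg, he⟩
    rcases hF with hq | ⟨n, hq⟩ | ⟨hp, k, hk⟩
    · exact Or.inr (Or.inl ⟨F, inferInstance, inferInstance, Or.inr hq, ⟨e⟩⟩)
    · exact Or.inl (heven h4 hq hP ⟨e⟩)
    · haveI := Fact.mk hp
      haveI : CharP F (Fintype.card F) := charP_of_card_eq_prime (p := Fintype.card F) rfl
      have hodd : Fintype.card F % 2 = 1 :=
        hp.eq_two_or_odd.resolve_left (by omega)
      have hd : Nat.gcd 2 (Fintype.card F - 1) = 2 := Nat.gcd_eq_left (by omega)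
      have hk1 : 1 ≤ k := by
        rcases k with _ | k
        · omega
        · omega
      -- an element of order `2 ^ (k - 1)`
      have hk3 : k ≤ 3 := by
        have h2k : 2 ^ k = 2 * 2 ^ (k - 1) := by rw [← pow_succ', Nat.sub_add_cancel hk1]
        obtain ⟨g, hg⟩ := CfsgLib.KnownB.SL2.exists_orderOf_psl (F := F) (Fintype.card F)
          (m := 2 ^ (k - 1)) (by
            rcases hk with hk | hk
            · exact Or.inr (Or.inl (by rw [hd, hk, Nat.add_sub_cancel, h2k, Nat.mul_div_cancel_left _ two_pos]))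
            · exact Or.inr (Or.inr (by rw [hd, hk, h2k, Nat.mul_div_cancel_left _ two_pos])))
        have := hP.length_le hg
        rw [Nat.Prime.primeFactorsList_pow Nat.prime_two, List.length_replicate] at this
        omega
      have h57 : Fintype.card F = 5 ∨ Fintype.card F = 7 := by
        have h9 : Fintype.card F ≠ 9 := fun e9 => by rw [e9] at hp; norm_num at hp
        rcases hk with hk | hk <;> interval_cases k <;> omega
      rcases h57 with hq | hq
      · letI : Fintype (GaloisField 2 2) := Fintype.ofFinite _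
        have hF4 : Fintype.card (GaloisField 2 2) = 4 := by
          rw [← Nat.card_eq_fintype_card, GaloisField.card 2 2 (by norm_num)]; rfl
        haveI := CfsgLib.ClassK.isSimpleGroup_psl_two (F := GaloisField 2 2) hF4.ge
        obtain ⟨e4⟩ := CfsgLib.ClassK.nonempty_equiv_sixty
          (hcard.trans (CfsgLib.Classical.card_psl_two_eq hq 60 (by decide)))
          (CfsgLib.Classical.card_psl_two_eq hF4 60 (by decide))
        exact Or.inl (heven hF4.ge (n := 2) hF4 (h.of_injective e4.symm.toMonoidHom e4.symm.injective)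
          ⟨e4⟩)
      · exact Or.inr (Or.inl ⟨F, inferInstance, inferInstance, Or.inl hq, ⟨e⟩⟩)
  · exact Or.inr (Or.inr (Or.inl h34))
  · haveI : CharP F 2 := charP_of_card_eq_prime_pow hF
    let e' : M ≃* Cfsg.Sz F m := e.trans (CfsgLib.Suzuki.szEquiv hm hF).symm
    have hP : H3 (Cfsg.Sz F m) := h.of_injective e'.symm.toMonoidHom e'.symm.injective
    have key : ∀ (A : Subgroup (Cfsg.Sz F m)) [IsCyclic A], (Nat.card A).primeFactorsList.length ≤ 2 := by
      intro A _
      obtain ⟨g, hg⟩ := IsCyclic.exists_generator (α := A)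
      exact hP.length_le (x := (g : Cfsg.Sz F m))
        (by rw [Subgroup.orderOf_coe, orderOf_eq_card_of_forall_mem_zpowers hg])
    have h0 := CfsgLib.Suzuki.thSq_of_card (F := F) hF
    haveI := CfsgLib.Suzuki.isCyclic_hSub h0
    obtain ⟨A, hA, hAc⟩ := CfsgLib.Suzuki.exists_torus_of_card hm hF (Or.inl rfl)
    obtain ⟨B, hB, hBc⟩ := CfsgLib.Suzuki.exists_torus_of_card hm hF (Or.inr rfl)
    haveI := hA.isCyclic hF
    haveI := hB.isCyclic hF
    refine Or.inr (Or.inr (Or.inr ⟨F, inferInstance, inferInstance, m, hm, hF, ?_, hBc ▸ key B,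
      hAc ▸ key A, ⟨e'⟩⟩))
    have := key (CfsgLib.Suzuki.hSub h0)
    rwa [CfsgLib.Suzuki.card_hSub, hF] at this

end CfsgLib.Recog.ThreeOrders
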