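import Cfsg.Agent.Lib.Recog.ThreeOrders.Extension
import Cfsg.Agent.Lib.Suzuki.Out

/-!
# No proper extension of a Suzuki group has 2-group involution centralisers
-/

set_option autoImplicit false
set_option linter.unusedSectionVars false
set_option linter.style.haveILetI false

namespace CfsgLib.Recog.ThreeOrders

open Matrix CfsgLib.Suzuki CfsgLib.Invol.CIT

universe u

variable {X : Type u} [Group X] [Finite X] {F : Type} [Field F] [Fintype F] [CharP F 2] {m : ℕ}

theorem sz_five (h : ThSq F m) : (wG h * tG h 0 1) ^ 5 = 1 := by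
  let Y : Matrix (Fin 4) (Fin 4) (ZMod 2) := !![0, 0, 0, 1; 0, 0, 1, 0; 0, 1, 0, 1; 1, 0, 1, 1]
  refine mat_injective ?_
  rw [mat_pow, mat_mul, mat_one]
  show ((wSL F).1 * tMat m (0 : F) 1 : Matrix (Fin 4) (Fin 4) F) ^ 5 = 1
  have e : ((wSL F).1 * tMat m (0 : F) 1 : Matrix (Fin 4) (Fin 4) F) = (ZMod.castHom (dvd_refl 2) F).mapMatrix Y := by
    ext i j
    fin_cases i <;> fin_cases j <;>
      simp [wSL, tMat, Y, Matrix.mul_apply, Fin.sum_univ_four]
  rw [e, ← map_pow, show Y ^ 5 = 1 by decide +kernel, map_one]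

theorem sz_ne_one (h : ThSq F m) : wG h * tG h 0 1 ≠ 1 := fun e => by
  have := congrArg (fun g => mat g 0 0) e
  simp only [mat_mul, mat_one] at this
  change ((wSL F).1 * tMat m (0 : F) 1 : Matrix (Fin 4) (Fin 4) F) 0 0 = (1 : Matrix (Fin 4) (Fin 4) F) 0 0 at this
  simp [wSL, tMat, Matrix.mul_apply, Fin.sum_univ_four] at this

theorem suzuki_top (hc : IsCIT X) {M : Subgroup X} (hm : 1 ≤ m)
    (hF : Fintype.card F = 2 ^ (2 * m + 1)) (A : Act M (Cfsg.Sz F m)) : M = ⊤ := by
  haveI : Fact (Nat.Prime 5) := ⟨by norm_num⟩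
  refine Subgroup.eq_top_iff' _ |>.2 fun x => ?_
  obtain ⟨g, σ, hx⟩ := exists_conj_mul_field hm hF (A.ψ x)
  obtain ⟨v, hv, hvM⟩ := A.exists_shift hx
  set h := thSq_of_card hF
  have hfw : A.ψ v (wG h) = wG h := by rw [hv, fieldHom_wG]
  have hft : A.ψ v (tG h 0 1) = tG h 0 1 := by rw [hv, fieldHom_tG, map_zero, map_one]
  have hw : orderOf (A.e.symm (wG h) : X) = 2 := by
    rw [Subgroup.orderOf_coe, A.e.symm.orderOf_eq]
    refine orderOf_eq_prime (by rw [pow_two, wG_sq]) fun e => ?_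
    have := congrArg (fun g => mat g 0 0) e
    simp only [mat_one] at this
    change (wSL F).1 0 0 = (1 : Matrix (Fin 4) (Fin 4) F) 0 0 at this
    simp [wSL] at this
  have hy : orderOf (A.e.symm (wG h * tG h 0 1) : X) = 5 := by
    rw [Subgroup.orderOf_coe, A.e.symm.orderOf_eq]
    exact orderOf_eq_prime (sz_five h) (sz_ne_one h)
  have h1 := hc.two_pow_of_commute (x := v)
    ⟨1, by rw [pow_one, ← hw, pow_orderOf_eq_one]⟩ (fun e => by rw [e, orderOf_one] at hw; omega)
    (A.fix v _ (by rw [A.e.apply_symm_apply, hfw]))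
  refine hvM ?_
  by_contra hvM'
  have := hc.eq_one_of_commute (x := (A.e.symm (wG h * tG h 0 1) : X)) (by rw [hy]; decide) h1
    (fun e => hvM' (e ▸ one_mem M))
    (A.fix v _ (by rw [A.e.apply_symm_apply, map_mul, hfw, hft])).symm
  rw [this, orderOf_one] at hy
  omega

end CfsgLib.Recog.ThreeOrders
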