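import Cfsg.Agent.Lib.Recog.ThreeOrders.Cover
import Cfsg.Agent.Lib.Recog.ThreeOrders.Simple
import Cfsg.Agent.Lib.Recog.ThreeOrders.PSLExt
import Cfsg.Agent.Lib.Recog.ThreeOrders.L34Ext
import Cfsg.Agent.Lib.Recog.ThreeOrders.SuzExt
import Cfsg.Agent.Lib.Recog.EPPOSimple.Main

/-!
# Nonsolvable groups with 2-group involution centralisers and no prime dividing three element orders
-/

set_option autoImplicit false
set_option linter.unusedSectionVars false
set_option linter.style.haveILetI false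

namespace CfsgLib.Recog.ThreeOrders

open Matrix CfsgLib.Invol.CIT CfsgLib.KnownB.SL2
open scoped MatrixGroups

universe u

variable {X : Type*} [Group X] {V : Type*} [CommGroup V] [Nontrivial V] {θ : X →* MulAut V}

theorem fpf_comp (hfpf : Fpf θ) {P : Type*} [Group P] (e : P ≃* X) : Fpf (θ.comp e.toMonoidHom) :=
  fun x hx hx1 => hfpf (e x) (by rwa [e.orderOf_eq]) fun h => hx1 (e.injective (h.trans (map_one e).symm))

theorem false_psl_seven {F : Type} [Field F] [Fintype F] (hF : Fintype.card F = 7)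
    {θ : Matrix.ProjectiveSpecialLinearGroup (Fin 2) F →* MulAut V} (hfpf : Fpf θ)
    (h2 : ∀ v : V, v * v = 1) : False := by
  haveI := Fact.mk (show Nat.Prime 7 by norm_num)
  haveI : CharP F 7 := charP_of_card_eq_prime_pow (f := 1) (hF.trans (pow_one 7).symm)
  have h7 : (7 : F) = 0 := by exact_mod_cast CharP.cast_eq_zero F 7
  let a : SL(2, F) := ⟨!![1, 1; 0, 1], by simp [Matrix.det_fin_two]⟩
  let b : SL(2, F) := ⟨!![3, 0; 0, 5], by simp [Matrix.det_fin_two]; linear_combination 2 * h7⟩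
  have hai : ∀ i : ℕ, (a ^ i).1 = !![1, (i : F); 0, 1] := by
    intro i
    induction i with
    | zero => simp [Matrix.one_fin_two]
    | succ i ih =>
      rw [pow_succ, Matrix.SpecialLinearGroup.coe_mul, ih]
      ext p q
      fin_cases p <;> fin_cases q <;> simp [a, add_comm]
  refine false_of_twentyone hfpf h2 (a := QuotientGroup.mk a) (b := QuotientGroup.mk b) ?_ ?_ ?_
    (mk_ne_one (i := 0) (j := 1) (by decide) (by simp [a])) fun i e => ?_
  · rw [← QuotientGroup.mk_pow]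
    refine mk_eq_one_iff.2 ⟨1, ?_⟩
    rw [hai, one_smul, Matrix.one_fin_two, show ((7 : ℕ) : F) = 0 from CharP.cast_eq_zero F 7]
  · rw [← QuotientGroup.mk_pow]
    refine mk_eq_one_iff.2 ⟨-1, ?_⟩
    rw [pow_three, Matrix.SpecialLinearGroup.coe_mul, Matrix.SpecialLinearGroup.coe_mul]
    ext i j
    fin_cases i <;> fin_cases j <;> simp [b] <;> first
      | linear_combination 4 * h7 | linear_combination 18 * h7
  · rw [← QuotientGroup.mk_pow, ← QuotientGroup.mk_mul, ← QuotientGroup.mk_mul]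
    refine congrArg _ (Subtype.ext ?_)
    rw [Matrix.SpecialLinearGroup.coe_mul, Matrix.SpecialLinearGroup.coe_mul, hai]
    ext i j
    fin_cases i <;> fin_cases j <;> simp [a, b, Matrix.mul_apply, Fin.sum_univ_two] <;>
      linear_combination (-1) * h7
  · rw [← QuotientGroup.mk_pow, ← QuotientGroup.mk_mul] at e
    obtain ⟨r, hr⟩ := mk_eq_one_iff.1 e
    rw [Matrix.SpecialLinearGroup.coe_mul, hai] at hr
    have e0 := congrFun (congrFun hr 0) 0
    have e1 := congrFun (congrFun hr 1) 1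
    simp [b, Matrix.mul_apply, Fin.sum_univ_two] at e0 e1
    have h1 : (1 : F) = 0 := by linear_combination (3 : F) * e0 - 3 * e1 + h7
    exact one_ne_zero h1

theorem false_psl_nine {F : Type} [Field F] [Fintype F] (hF : Fintype.card F = 9)
    {θ : Matrix.ProjectiveSpecialLinearGroup (Fin 2) F →* MulAut V} (hfpf : Fpf θ)
    (h2 : ∀ v : V, v * v = 1) : False := by
  classical
  haveI := Fact.mk Nat.prime_three
  haveI : CharP F 3 := charP_of_card_eq_prime_pow (f := 2) (hF.trans (by norm_num))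
  have h3 : (3 : F) = 0 := by exact_mod_cast CharP.cast_eq_zero F 3
  obtain ⟨u, hu0, hu1⟩ : ∃ u : F, u ≠ 0 ∧ u ^ 2 ≠ 1 := by
    obtain ⟨g, hg⟩ := IsCyclic.exists_generator (α := Fˣ)
    refine ⟨g, g.ne_zero, fun e => ?_⟩
    have h8 := orderOf_dvd_of_pow_eq_one (x := g) (n := 2) (Units.ext (by
      rw [Units.val_pow_eq_pow_val, Units.val_one, e]))
    rw [orderOf_eq_card_of_forall_mem_zpowers hg, Nat.card_eq_fintype_card, Fintype.card_units, hF] at h8
    norm_num at h8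
  let t : F → SL(2, F) := fun x => ⟨!![1, x; 0, 1], by simp [Matrix.det_fin_two]⟩
  have ht : ∀ x y, t x * t y = t (x + y) := fun x y => Subtype.ext (by
    rw [Matrix.SpecialLinearGroup.coe_mul]
    ext i j
    fin_cases i <;> fin_cases j <;> simp [t, add_comm])
  have ht0 : t 0 = 1 := Subtype.ext (by simp [t, Matrix.one_fin_two])
  have ht3 : ∀ x, (QuotientGroup.mk (t x) : Matrix.ProjectiveSpecialLinearGroup (Fin 2) F) ^ 3 = 1 :=
    fun x => by
      rw [← QuotientGroup.mk_pow, pow_three, ht, ht, show x + (x + x) = 0 by linear_combination x * h3, ht0,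
        QuotientGroup.mk_one]
  have hinj : ∀ x y, (QuotientGroup.mk (t x) : Matrix.ProjectiveSpecialLinearGroup (Fin 2) F) =
      QuotientGroup.mk (t y) → x = y := by
    intro x y e
    rcases mk_eq_mk_iff.1 e with e' | e'
    · simpa [t] using congrArg (fun s : SL(2, F) => s.1 0 1) e'
    · have := congrArg (fun s : SL(2, F) => s.1 0 0) e'
      simp [t, negSL] at this
      have h1 : (1 : F) = 0 := by linear_combination h3 - this
      exact absurd h1 one_ne_zero
  refine false_of_nine hfpf h2 (a := QuotientGroup.mk (t 1)) (b := QuotientGroup.mk (t u)) (ht3 1) (ht3 u)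
    (by rw [← QuotientGroup.mk_mul, ← QuotientGroup.mk_mul, ht, ht, add_comm]) (fun hmem => ?_)
    (mk_ne_one (i := 0) (j := 1) (by decide) (by simp [t]))
  rw [mem_zpowers_iff_mem_range_orderOf, Finset.mem_image] at hmem
  obtain ⟨n, hn, hnu⟩ := hmem
  rw [orderOf_eq_prime (ht3 1) (mk_ne_one (i := 0) (j := 1) (by decide) (by simp [t])),
    Finset.mem_range] at hn
  interval_cases n
  · rw [pow_zero, ← QuotientGroup.mk_one, ← ht0] at hnu
    exact hu0 (hinj _ _ hnu).symm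
  · rw [pow_one] at hnu
    exact hu1 (by rw [← hinj _ _ hnu, one_pow])
  · rw [pow_two, ← QuotientGroup.mk_mul, ht] at hnu
    exact hu1 (by rw [← hinj _ _ hnu]; linear_combination h3)

theorem false_psl_three {F : Type} [Field F] [Fintype F] (hF : Fintype.card F = 4)
    {θ : Matrix.ProjectiveSpecialLinearGroup (Fin 3) F →* MulAut V} (hfpf : Fpf θ)
    (h2 : ∀ v : V, v * v = 1) : False := by
  obtain ⟨a, b, ha, hb, hab, hb'⟩ := EPPOSimple.exists_three_pair hF
  exact false_of_nine hfpf h2 (orderOf_dvd_iff_pow_eq_one.1 (dvd_of_eq ha))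
    (orderOf_dvd_iff_pow_eq_one.1 (dvd_of_eq hb)) hab hb'
    (fun e => by rw [e, orderOf_one] at ha; omega)

theorem false_suzuki {F : Type} [Field F] [Fintype F] [CharP F 2] {m : ℕ}
    (hs : CfsgLib.Suzuki.ThSq F m)
    {θ : Cfsg.Sz F m →* MulAut V} (hfpf : Fpf θ) (h2 : ∀ v : V, v * v = 1)
    (hnorm : ∀ c : Cfsg.Sz F m, c ^ 4 = 1 → ∀ v, v * θ c v * θ (c ^ 2) v * θ (c ^ 3) v = 1) : False := by
  open CfsgLib.Suzuki in
  refine false_of_twenty hfpf h2 hnorm (a := wG hs * tG hs 0 1) (b := tG hs 1 0) (sz_five hs) ?_ ?_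
    (sz_ne_one hs)
  all_goals refine CfsgLib.Suzuki.mat_injective ?_
  all_goals
    let Y : Matrix (Fin 4) (Fin 4) (ZMod 2) := !![0, 0, 0, 1; 0, 0, 1, 0; 0, 1, 0, 1; 1, 0, 1, 1]
    let U : Matrix (Fin 4) (Fin 4) (ZMod 2) := !![1, 1, 1, 1; 0, 1, 1, 0; 0, 0, 1, 1; 0, 0, 0, 1]
    have eU : CfsgLib.Suzuki.mat (CfsgLib.Suzuki.tG hs (1 : F) 0) =
        (ZMod.castHom (dvd_refl 2) F).mapMatrix U := by
      show CfsgLib.Suzuki.tMat m (1 : F) 0 = _
      ext i j
      fin_cases i <;> fin_cases j <;> simp [CfsgLib.Suzuki.tMat, U]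
    have eY : CfsgLib.Suzuki.mat (CfsgLib.Suzuki.wG hs * CfsgLib.Suzuki.tG hs (0 : F) 1) =
        (ZMod.castHom (dvd_refl 2) F).mapMatrix Y := by
      show ((CfsgLib.Suzuki.wSL F).1 * CfsgLib.Suzuki.tMat m (0 : F) 1 :
        Matrix (Fin 4) (Fin 4) F) = _
      ext i j
      fin_cases i <;> fin_cases j <;>
        simp [CfsgLib.Suzuki.wSL, CfsgLib.Suzuki.tMat, Y, Matrix.mul_apply, Fin.sum_univ_four]
  · rw [CfsgLib.Suzuki.mat_pow, CfsgLib.Suzuki.mat_one, eU, ← map_pow,
      show U ^ 4 = 1 by decide +kernel, map_one]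
  · rw [CfsgLib.Suzuki.mat_mul, eY, CfsgLib.Suzuki.mat_mul (_ ^ 2), CfsgLib.Suzuki.mat_pow, eU, eY,
      ← map_pow]
    exact (map_mul _ U Y).symm.trans
      ((congrArg _ (show U * Y = Y ^ 2 * U by decide +kernel)).trans (map_mul _ (Y ^ 2) U))

variable {G : Type u} [Group G] [Finite G]

theorem cit_case (hns : ¬ Group.IsSolvable G) (h : H3 G) (hc : IsCIT G) :
    (∃ (F : Type) (_ : Field F) (_ : Fintype F), CharP F 2 ∧ 4 ≤ Fintype.card F ∧
        (Fintype.card F + 1).primeFactorsList.length ≤ 2 ∧ (Fintype.card F - 1).primeFactorsList.length ≤ 2 ∧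
        Nonempty (G ⧸ Cfsg.pCore 2 G ≃* Matrix.ProjectiveSpecialLinearGroup (Fin 2) F)) ∨
    (∃ (F : Type) (_ : Field F) (_ : Fintype F), (Fintype.card F = 7 ∨ Fintype.card F = 9) ∧
        Nonempty (G ≃* Matrix.ProjectiveSpecialLinearGroup (Fin 2) F)) ∨
    (∃ (F : Type) (_ : Field F) (_ : Fintype F), Fintype.card F = 4 ∧
        Nonempty (G ≃* Matrix.ProjectiveSpecialLinearGroup (Fin 3) F)) ∨
    (∃ n : ℕ, 1 ≤ n ∧ IsSimpleGroup G ∧
        Nat.card G = (2 ^ (2 * n + 1)) ^ 2 * ((2 ^ (2 * n + 1)) ^ 2 + 1) * (2 ^ (2 * n + 1) - 1) ∧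
        (2 ^ (2 * n + 1) - 1).primeFactorsList.length ≤ 2 ∧
        (2 ^ (2 * n + 1) - 2 ^ (n + 1) + 1).primeFactorsList.length ≤ 2 ∧
        (2 ^ (2 * n + 1) + 2 ^ (n + 1) + 1).primeFactorsList.length ≤ 2) := by
  haveI : (Cfsg.pCore 2 G).Normal := CfsgLib.Solvable.pCore_normal 2 G
  set R := Cfsg.pCore 2 G with hR
  obtain ⟨-, hcX, M, hMn, hMs, hMns, hMC⟩ := quot_socle hns hc R hR
  haveI := hMn
  haveI := hMs
  have hX : H3 (G ⧸ R) := h.quotient R
  -- once `M` is everything and `R` is trivial, `G` is the model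
  have iso : ∀ {P : Type} [Group P], M = ⊤ → (M ≃* P) → Nonempty ((G ⧸ R) ≃* P) := fun {P} _ hM e =>
    ⟨(Subgroup.topEquiv.symm.trans (MulEquiv.subgroupCongr hM.symm)).trans e⟩
  have lift : ∀ {P : Type} [Group P], M = ⊤ → (M ≃* P) →
      (∀ (V : Type u) [CommGroup V] [Nontrivial V] (θ : P →* MulAut V), Fpf θ → (∀ v : V, v * v = 1) →
        (∀ c, c ^ 4 = 1 → ∀ v, v * θ c v * θ (c ^ 2) v * θ (c ^ 3) v = 1) → False) →
      Nonempty (G ≃* P) := by
    intro P _ hM e big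
    obtain ⟨f⟩ := iso hM e
    have h0 := eq_bot_of_frobenius h hc R (CfsgLib.Solvable.pCore_isPGroup 2) fun V _ _ θ hfpf h2 hn =>
      big V (θ.comp f.symm.toMonoidHom) (fpf_comp hfpf f.symm) h2 fun c hc4 v => by
        have := hn (f.symm c) (by rw [← map_pow, hc4, map_one]) v
        simpa [map_pow] using this
    exact ⟨((QuotientGroup.quotientBot (G := G)).symm.trans
      (QuotientGroup.quotientMulEquivOfEq h0.symm)).trans f⟩
  rcases cit_simple hMns (hX.subgroup M) (hcX.subgroup M) with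
    ⟨F, _, _, hF2, h4, hp, hm, ⟨e⟩⟩ | ⟨F, _, _, hF, ⟨e⟩⟩ | ⟨F, _, _, hF, ⟨e⟩⟩ |
      ⟨F, _, _, m, hm, hF, hl1, hl2, hl3, ⟨e⟩⟩
  · obtain ⟨A⟩ := exists_act M hMC e
    exact Or.inl ⟨F, inferInstance, inferInstance, hF2, h4, hp, hm,
      iso (psl_two_top hX hcX A (Or.inl hF2)) e⟩
  · obtain ⟨A⟩ := exists_act M hMC e
    refine Or.inr (Or.inl ⟨F, inferInstance, inferInstance, hF,
      lift (psl_two_top hX hcX A (Or.inr hF)) e fun V _ _ θ hfpf h2 _ => ?_⟩)
    rcases hF with hF | hF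
    · exact false_psl_seven hF hfpf h2
    · exact false_psl_nine hF hfpf h2
  · obtain ⟨A⟩ := exists_act M hMC e
    exact Or.inr (Or.inr (Or.inl ⟨F, inferInstance, inferInstance, hF,
      lift (psl_three_top hcX hF A) e fun V _ _ θ hfpf h2 _ => false_psl_three hF hfpf h2⟩))
  · haveI := Fact.mk Nat.prime_two
    haveI : CharP F 2 := charP_of_card_eq_prime_pow hF
    obtain ⟨A⟩ := exists_act M hMC e
    obtain ⟨f⟩ := lift (suzuki_top hcX hm hF A) e fun V _ _ θ hfpf h2 hn =>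
      false_suzuki (CfsgLib.Suzuki.thSq_of_card hF) hfpf h2 hn
    haveI : IsSimpleGroup G := (f.trans e.symm).isSimpleGroup
    refine Or.inr (Or.inr (Or.inr ⟨m, hm, inferInstance, ?_, hl1, hl2, hl3⟩))
    rw [Nat.card_congr f.toEquiv, CfsgLib.Suzuki.card_sz hm hF, hF]
    ring

end CfsgLib.Recog.ThreeOrders
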