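import Cfsg.Agent.Lib.Recog.ThreeOrders.CIT
import Mathlib.Algebra.Ring.GeomSum
import Mathlib.GroupTheory.Nilpotent

/-!
# The largest normal 2-subgroup is trivial above groups with suitable Frobenius subgroups
-/

set_option autoImplicit false
set_option linter.unusedSectionVars false
set_option linter.style.haveILetI false

namespace CfsgLib.Recog.ThreeOrders

open Subgroup CfsgLib.Invol CfsgLib.Invol.CIT

universe u

theorem nine_identity {R : Type*} [Ring R] (A B : R) :
    (1 + A * B + (-1 - A) * (-1 - B)) + (1 + A * (-1 - B) + (-1 - A) * B) = (1 + 1) + 1 := by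
  simp [mul_sub, sub_mul]
  abel

section Module

variable {X V : Type*} [Group X] [CommGroup V] (θ : X →* MulAut V)

/-- The action as endomorphisms. -/
def toEnd : X →* AddMonoid.End (Additive V) where
  toFun x := (θ x).toMonoidHom.toAdditive
  map_one' := by
    refine AddMonoidHom.ext fun v => ?_
    show Additive.ofMul (θ 1 v.toMul) = v
    rw [map_one]
    rfl
  map_mul' x y := by
    refine AddMonoidHom.ext fun v => ?_
    show Additive.ofMul (θ (x * y) v.toMul) = Additive.ofMul (θ x (θ y v.toMul))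
    rw [map_mul]
    rfl

/-- Elements of odd order act without fixed points. -/
def Fpf : Prop := ∀ x : X, Odd (orderOf x) → x ≠ 1 → ∀ v, θ x v = v → v = 1

variable {θ} (hfpf : Fpf θ)
include hfpf

theorem norm_eq_zero {x : X} {n : ℕ} (hn : Odd n) (hx : x ^ n = 1) (hx1 : x ≠ 1) :
    ∑ i ∈ Finset.range n, toEnd θ x ^ i = 0 := by
  refine AddMonoidHom.ext fun v => ?_
  have h : (toEnd θ x - 1) * ∑ i ∈ Finset.range n, toEnd θ x ^ i = 0 := by
    rw [mul_geom_sum, ← map_pow, hx, map_one, sub_self]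
  have h' : toEnd θ x ((∑ i ∈ Finset.range n, toEnd θ x ^ i) v) - (∑ i ∈ Finset.range n, toEnd θ x ^ i) v = 0 :=
    DFunLike.congr_fun h v
  have := hfpf x (hn.of_dvd_nat (orderOf_dvd_of_pow_eq_one hx)) hx1
    (Additive.toMul ((∑ i ∈ Finset.range n, toEnd θ x ^ i) v))
    (congrArg Additive.toMul (sub_eq_zero.1 h'))
  exact congrArg Additive.ofMul this

/-- An elementary abelian group of order nine. -/
theorem false_of_nine [Nontrivial V] (h2 : ∀ v : V, v * v = 1) {a b : X} (ha : a ^ 3 = 1)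
    (hb : b ^ 3 = 1) (hab : a * b = b * a) (hb' : b ∉ zpowers a) (ha1 : a ≠ 1) : False := by
  have hc : Commute a b := hab
  set A := toEnd θ a
  set B := toEnd θ b
  have hAB : Commute A B := hc.map (toEnd θ)
  have h3 : ∀ {x : X}, x ^ 3 = 1 → x ≠ 1 → 1 + toEnd θ x + toEnd θ x * toEnd θ x = 0 := by
    intro x hx hx1
    have := norm_eq_zero hfpf (n := 3) (by decide) hx hx1
    simpa [Finset.sum_range_succ, pow_two] using this
  have e1 : 1 + A + A * A = 0 := h3 ha ha1
  have e2 : 1 + B + B * B = 0 := h3 hb fun e => hb' (e ▸ one_mem _)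
  have e3 : 1 + A * B + A * A * (B * B) = 0 := by
    have := h3 (x := a * b) (by rw [hc.mul_pow, ha, hb, one_mul]) fun e => hb' (by
      rw [show b = a⁻¹ from eq_inv_of_mul_eq_one_right e]
      exact inv_mem (mem_zpowers a))
    rw [map_mul] at this
    rwa [hAB.symm.mul_mul_mul_comm] at this
  have e4 : 1 + A * (B * B) + A * A * B = 0 := by
    have hb3 : B * B * (B * B) = B := by
      rw [← map_mul, ← map_mul, show b * b * (b * b) = b ^ 3 * b by simp [pow_three, mul_assoc], hb, one_mul]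
    have := h3 (x := a * (b * b)) (by
      rw [(hc.mul_right hc).mul_pow, ha, one_mul, ← pow_two, ← pow_mul, mul_comm, pow_mul, hb, one_pow])
      fun e => hb' (by
        have hba : b = a := by
          calc b = b ^ 3 * (b * b)⁻¹ := by group
            _ = a := by rw [hb, one_mul, ← eq_inv_of_mul_eq_one_left e]
        exact hba ▸ mem_zpowers a)
    rw [map_mul, map_mul, (hAB.mul_right hAB).symm.mul_mul_mul_comm, hb3] at this
    exact this
  have h20 : ∀ T : AddMonoid.End (Additive V), T + T = 0 := fun T => by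
    refine AddMonoidHom.ext fun v => ?_
    exact congrArg Additive.ofMul (h2 (Additive.toMul (T v)))
  have hA : A * A = -1 - A := by rw [eq_sub_iff_add_eq, eq_neg_iff_add_eq_zero, ← e1]; abel
  have hB : B * B = -1 - B := by rw [eq_sub_iff_add_eq, eq_neg_iff_add_eq_zero, ← e2]; abel
  rw [hA, hB] at e3
  rw [hA, hB] at e4
  have h1 : (1 : AddMonoid.End (Additive V)) = 0 := by
    have hadd : (1 + A * B + (-1 - A) * (-1 - B)) + (1 + A * (-1 - B) + (-1 - A) * B) = 0 := by
      rw [e3, e4, add_zero]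
    have hsimp : (1 + A * B + (-1 - A) * (-1 - B)) + (1 + A * (-1 - B) + (-1 - A) * B) = (1 + 1) + 1 := by
      exact nine_identity A B
    rw [hsimp, h20, zero_add] at hadd
    exact hadd
  obtain ⟨v, hv⟩ := exists_ne (1 : V)
  exact hv (congrArg Additive.toMul (DFunLike.congr_fun h1 (Additive.ofMul v)))

/-- A Frobenius group of order twenty-one. -/
theorem false_of_twentyone [Nontrivial V] (h2 : ∀ v : V, v * v = 1) {a b : X} (ha : a ^ 7 = 1)
    (hb : b ^ 3 = 1) (hab : b * a = a ^ 2 * b) (ha1 : a ≠ 1) (hb' : ∀ i, a ^ i * b ≠ 1) : False := by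
  set A := toEnd θ a
  set B := toEnd θ b
  have hA := norm_eq_zero hfpf (n := 7) (by decide) ha ha1
  have hpow : ∀ i, b * a ^ i = a ^ (2 * i) * b := by
    intro i
    induction i with
    | zero => simp
    | succ i ih => rw [pow_succ, ← mul_assoc, ih, mul_assoc, hab, ← mul_assoc, ← pow_add, Nat.mul_succ]
  have hsq : ∀ i, a ^ i * b * (a ^ i * b) = a ^ (3 * i) * (b * b) := fun i => by
    rw [mul_assoc, ← mul_assoc b, hpow, mul_assoc, ← mul_assoc, ← pow_add,
      show i + 2 * i = 3 * i by ring]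
  have hC : ∀ i, 1 + A ^ i * B + A ^ (3 * i) * (B * B) = 0 := by
    intro i
    have h := norm_eq_zero hfpf (x := a ^ i * b) (n := 3) (by decide) (by
      rw [pow_three, hsq, mul_assoc, ← mul_assoc b, hpow, ← mul_assoc (a ^ i), ← mul_assoc (a ^ i), ← pow_add,
        show i + 2 * (3 * i) = 7 * i by ring, pow_mul, ha, one_pow, one_mul, ← pow_three, hb]) (hb' i)
    rw [Finset.sum_range_succ, Finset.sum_range_succ, Finset.sum_range_succ, Finset.sum_range_zero,
      zero_add, pow_zero, pow_one, pow_two, ← map_mul (toEnd θ), hsq] at h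
    simpa [map_mul, map_pow] using h
  have hsum : (7 : ℕ) • (1 : AddMonoid.End (Additive V)) + (∑ i ∈ Finset.range 7, A ^ i) * B +
      (∑ i ∈ Finset.range 7, A ^ (3 * i)) * (B * B) = 0 := by
    rw [Finset.sum_mul, Finset.sum_mul, show (7 : ℕ) • (1 : AddMonoid.End (Additive V)) =
      ∑ _i ∈ Finset.range 7, 1 by simp, ← Finset.sum_add_distrib, ← Finset.sum_add_distrib]
    exact Finset.sum_eq_zero fun i _ => hC i
  have hA3 : ∑ i ∈ Finset.range 7, A ^ (3 * i) = 0 := by
    have := norm_eq_zero hfpf (x := a ^ 3) (n := 7) (by decide)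
      (by rw [← pow_mul, mul_comm, pow_mul, ha, one_pow]) fun e => ha1 (by
        calc a = (a ^ 3) ^ 5 * (a ^ 7)⁻¹ * (a ^ 7)⁻¹ := by group
          _ = 1 := by rw [e, ha]; group)
    simpa [map_pow, ← pow_mul] using this
  rw [hA, hA3, zero_mul, zero_mul, add_zero, add_zero] at hsum
  obtain ⟨v, hv⟩ := exists_ne (1 : V)
  have h7 : v ^ 7 = 1 := congrArg Additive.toMul (DFunLike.congr_fun hsum (Additive.ofMul v))
  exact hv (by
    rwa [show (7 : ℕ) = 2 * 3 + 1 from rfl, pow_succ, pow_mul, pow_two, h2, one_pow, one_mul] at h7)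

/-- A Frobenius group of order twenty: some element of order dividing four has a non-trivial norm. -/
theorem false_of_twenty [Nontrivial V] (h2 : ∀ v : V, v * v = 1)
    (hnorm : ∀ c : X, c ^ 4 = 1 → ∀ v, v * θ c v * θ (c ^ 2) v * θ (c ^ 3) v = 1)
    {a b : X} (ha : a ^ 5 = 1) (hb : b ^ 4 = 1) (hab : b * a = a ^ 2 * b) (ha1 : a ≠ 1) : False := by
  set A := toEnd θ a
  set B := toEnd θ b
  have hpow : ∀ i, b * a ^ i = a ^ (2 * i) * b := by
    intro i
    induction i with
    | zero => simp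
    | succ i ih => rw [pow_succ, ← mul_assoc, ih, mul_assoc, hab, ← mul_assoc, ← pow_add, Nat.mul_succ]
  have hmul : ∀ i j k, a ^ i * b * (a ^ j * k) = a ^ (i + 2 * j) * (b * k) := fun i j k => by
    rw [mul_assoc, ← mul_assoc b, hpow, mul_assoc, ← mul_assoc, ← pow_add]
  have hs : ∀ k : ℕ, ¬ 5 ∣ k → ∑ i ∈ Finset.range 5, A ^ (k * i) = 0 := fun k hk => by
    have := norm_eq_zero hfpf (x := a ^ k) (n := 5) (by decide)
      (by rw [← pow_mul, mul_comm, pow_mul, ha, one_pow]) fun e => hk (by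
        rw [← orderOf_eq_prime (p := 5) (hp := ⟨by norm_num⟩) ha ha1]
        exact orderOf_dvd_of_pow_eq_one e)
    simpa [map_pow, ← pow_mul] using this
  have hC : ∀ i, 1 + A ^ i * B + A ^ (3 * i) * (B * B) + A ^ (7 * i) * (B * (B * B)) = 0 := by
    intro i
    have e2 : (a ^ i * b) ^ 2 = a ^ (3 * i) * (b * b) := by
      rw [pow_two, hmul, show i + 2 * i = 3 * i by ring]
    have e3 : (a ^ i * b) ^ 3 = a ^ (7 * i) * (b * (b * b)) := by
      rw [pow_succ', e2, hmul, show i + 2 * (3 * i) = 7 * i by ring]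
    have e4 : (a ^ i * b) ^ 4 = 1 := by
      rw [pow_succ', e3, hmul, show i + 2 * (7 * i) = 5 * (3 * i) by ring, pow_mul, ha, one_pow,
        one_mul, show b * (b * (b * b)) = b ^ 4 by simp [pow_succ, mul_assoc], hb]
    refine AddMonoidHom.ext fun v => ?_
    have := hnorm (a ^ i * b) e4 (Additive.toMul v)
    rw [e2, e3] at this
    have hval : ∀ x, toEnd θ x v = Additive.ofMul (θ x (Additive.toMul v)) := fun _ => rfl
    show v + (A ^ i * B) v + (A ^ (3 * i) * (B * B)) v + (A ^ (7 * i) * (B * (B * B))) v = 0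
    simp only [A, B, ← map_pow, ← map_mul, hval]
    exact congrArg Additive.ofMul this
  have hsum : (5 : ℕ) • (1 : AddMonoid.End (Additive V)) + (∑ i ∈ Finset.range 5, A ^ (1 * i)) * B +
      (∑ i ∈ Finset.range 5, A ^ (3 * i)) * (B * B) +
      (∑ i ∈ Finset.range 5, A ^ (7 * i)) * (B * (B * B)) = 0 := by
    simp only [Finset.sum_mul, one_mul]
    rw [show (5 : ℕ) • (1 : AddMonoid.End (Additive V)) = ∑ _i ∈ Finset.range 5, 1 by simp,
      ← Finset.sum_add_distrib, ← Finset.sum_add_distrib, ← Finset.sum_add_distrib]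
    exact Finset.sum_eq_zero fun i _ => hC i
  rw [hs 1 (by norm_num), hs 3 (by norm_num), hs 7 (by norm_num), zero_mul, zero_mul, zero_mul,
    add_zero, add_zero, add_zero] at hsum
  obtain ⟨v, hv⟩ := exists_ne (1 : V)
  have h5 : v ^ 5 = 1 := congrArg Additive.toMul (DFunLike.congr_fun hsum (Additive.ofMul v))
  exact hv (by
    rwa [show (5 : ℕ) = 2 * 2 + 1 from rfl, pow_succ, pow_mul, pow_two, h2, one_mul] at h5)

end Module

section Core

variable {G : Type u} [Group G] [Finite G]

open scoped IsMulCommutative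

theorem eq_bot_of_frobenius (h : H3 G) (hc : IsCIT G) (R : Subgroup G) [R.Normal] (hR : IsPGroup 2 R)
    (big : ∀ (V : Type u) [CommGroup V] [Nontrivial V] (θ : G ⧸ R →* MulAut V), Fpf θ →
      (∀ v : V, v * v = 1) →
      (∀ c, c ^ 4 = 1 → ∀ v, v * θ c v * θ (c ^ 2) v * θ (c ^ 3) v = 1) → False) : R = ⊥ := by
  haveI : Fact (Nat.Prime 2) := ⟨Nat.prime_two⟩
  by_contra hne
  -- a minimal normal subgroup in the centre of `R`
  have hZ : (Subgroup.center R).map R.subtype ≠ ⊥ := by
    haveI : Nontrivial R := (Subgroup.nontrivial_iff_ne_bot R).2 hne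
    have := hR.center_nontrivial
    intro e
    rw [Subgroup.map_eq_bot_iff_of_injective _ R.subtype_injective] at e
    exact (Subgroup.nontrivial_iff_ne_bot _).1 this e
  obtain ⟨V, hVn, hV1, hVZ, hmin⟩ := CfsgLib.Solvable.exists_minimal_normal_le
    (N := (Subgroup.center R).map R.subtype) inferInstance hZ
  haveI := hVn
  have hVR : V ≤ R := hVZ.trans (Subgroup.map_subtype_le _)
  have hVp : IsPGroup 2 V := hR.to_le hVR
  haveI := hVp.isNilpotent
  haveI : IsMulCommutative V := CfsgLib.Solvable.isMulCommutative_of_minimal_normal hV1 hmin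
  obtain ⟨p, hp, hexp⟩ := CfsgLib.Solvable.exists_prime_pow_eq_one_of_minimal_normal hV1 hmin
  haveI : Nontrivial V := (Subgroup.nontrivial_iff_ne_bot V).2 hV1
  have hexp2 : ∀ v ∈ V, v * v = 1 := by
    obtain ⟨⟨v, hv⟩, hv1⟩ := exists_ne (1 : V)
    have hv1' : v ≠ 1 := fun e => hv1 (Subtype.ext e)
    have e2 : p = 2 := by
      obtain ⟨k, hk⟩ := IsPGroup.iff_orderOf.1 hVp ⟨v, hv⟩
      rw [Subgroup.orderOf_mk] at hk
      rcases (Nat.dvd_prime hp).1 (orderOf_dvd_of_pow_eq_one (hexp v hv)) with e | e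
      · exact absurd (orderOf_eq_one_iff.1 e) hv1'
      · rw [hk] at e
        exact ((Nat.prime_dvd_prime_iff_eq Nat.prime_two hp).1
          (e ▸ dvd_pow_self 2 (fun hk0 => hp.ne_one (by rw [← e, hk0, pow_zero])))).symm
    subst e2
    exact fun w hw => by rw [← pow_two]; exact hexp w hw
  have hker : R ≤ (MulAut.conjNormal : G →* MulAut V).ker := fun r hr => by
    rw [MonoidHom.mem_ker]
    refine MulEquiv.ext fun v => Subtype.ext ?_
    obtain ⟨z, hz, hzv⟩ := hVZ v.2
    rw [MulAut.conjNormal_apply, MulAut.one_apply, mul_inv_eq_iff_eq_mul, ← hzv]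
    exact congrArg Subtype.val (Subgroup.mem_center_iff.1 hz ⟨r, hr⟩)
  refine big V (QuotientGroup.lift R MulAut.conjNormal hker) ?_ (fun v => Subtype.ext (hexp2 v v.2)) ?_
  · intro x hx hx1 v hv
    by_contra hv1
    obtain ⟨g, rfl⟩ := QuotientGroup.mk_surjective x
    rw [QuotientGroup.lift_mk] at hv
    have hgv : g * (v : G) * g⁻¹ = v := by
      have := congrArg Subtype.val hv
      rwa [MulAut.conjNormal_apply] at this
    obtain ⟨k, hk⟩ := hc.two_pow_of_commute (y := (v : G)) ⟨1, by rw [pow_one, pow_two]; exact hexp2 v v.2⟩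
      (fun e => hv1 (Subtype.ext e)) (mul_inv_eq_iff_eq_mul.1 hgv)
    exact hx1 (eq_one_of_two_pow_of_odd ⟨k, by rw [← QuotientGroup.mk_pow, hk, QuotientGroup.mk_one]⟩ hx)
  · intro c hc4 v
    by_cases hc1 : c = 1
    · subst hc1
      simp only [one_pow, map_one, MulAut.one_apply]
      refine Subtype.ext ?_
      simp only [Subgroup.coe_mul, Subgroup.coe_one]
      rw [hexp2 v v.2, one_mul, hexp2 v v.2]
    have hfour : ∀ g : G, (g : G ⧸ R) = c → g ^ 4 = 1 := by
      intro g hg
      have hev : 2 ∣ orderOf g := by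
        obtain ⟨i, hi, hi'⟩ := (Nat.dvd_prime_pow Nat.prime_two).1
          (orderOf_dvd_of_pow_eq_one (show c ^ 2 ^ 2 = 1 from hc4))
        refine dvd_trans ?_ (hg ▸ orderOf_map_dvd (QuotientGroup.mk' R) g : orderOf c ∣ orderOf g)
        rcases i with _ | i
        · exact absurd (orderOf_eq_one_iff.1 hi') hc1
        · rw [hi', pow_succ]; exact dvd_mul_left 2 _
      have ht : orderOf (g ^ (orderOf g / 2)) = 2 := orderOf_pow_orderOf_div (orderOf_pos g).ne' hev
      obtain ⟨k, hk⟩ := hc.two_pow_of_commute (x := g) (y := g ^ (orderOf g / 2))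
        ⟨1, orderOf_dvd_iff_pow_eq_one.1 (by rw [ht, pow_one])⟩
        (fun e => by rw [e, orderOf_one] at ht; omega) (Commute.self_pow g _)
      obtain ⟨i, -, hi⟩ := (Nat.dvd_prime_pow Nat.prime_two).1 (orderOf_dvd_of_pow_eq_one hk)
      have := h.length_le hi
      rw [Nat.Prime.primeFactorsList_pow Nat.prime_two, List.length_replicate] at this
      exact orderOf_dvd_iff_pow_eq_one.1 (hi ▸ pow_dvd_pow 2 this)
    obtain ⟨g, rfl⟩ := QuotientGroup.mk_surjective c
    have h0 := hfour g rfl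
    have h1 := hfour ((v : G) * g) (by
      rw [QuotientGroup.mk_mul, (QuotientGroup.eq_one_iff (v : G)).2 (hVR v.2), one_mul])
    refine Subtype.ext ?_
    simp only [← QuotientGroup.mk_pow, QuotientGroup.lift_mk, Subgroup.coe_mul,
      MulAut.conjNormal_apply, Subgroup.coe_one]
    calc (v : G) * (g * v * g⁻¹) * (g ^ 2 * v * (g ^ 2)⁻¹) * (g ^ 3 * v * (g ^ 3)⁻¹)
        = ((v : G) * g) ^ 4 * (g ^ 4)⁻¹ := by simp [pow_succ, mul_assoc]
      _ = 1 := by rw [h0, h1]; group

end Core

end CfsgLib.Recog.ThreeOrders
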