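import Cfsg.Agent.Lib.Recog.ThreeOrders.Basic
import Cfsg.Agent.Lib.KnownC.AutPSLOut
import Cfsg.Agent.Lib.KnownB.PSL2Elem

/-!
# Groups with a normal `PSL(2, F)` with trivial centraliser: general facts
-/

set_option autoImplicit false
set_option linter.unusedSectionVars false
set_option linter.style.haveILetI false

namespace CfsgLib.Recog.ThreeOrders

open Matrix CfsgLib.KnownC
open scoped MatrixGroups

universe u

variable {X : Type u} [Group X]

/-- The action on a normal subgroup with trivial centraliser. -/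
structure Act (M : Subgroup X) (P : Type*) [Group P] where
  e : M ≃* P
  ψ : X →* MulAut P
  inj : Function.Injective ψ
  inner : ∀ m : M, ψ (m : X) = MulAut.conj (e m)
  fix : ∀ (x : X) (m : M), ψ x (e m) = e m → Commute x (m : X)

theorem exists_act (M : Subgroup X) [M.Normal] (hC : Subgroup.centralizer (M : Set X) = ⊥)
    {P : Type*} [Group P] (e : M ≃* P) : Nonempty (Act M P) := by
  let ψ : X →* MulAut P := (MulAut.congr e).toMonoidHom.comp MulAut.conjNormal
  have hval : ∀ (x : X) (m : M), ψ x (e m) = e (MulAut.conjNormal x m) := fun x m => by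
    show e (MulAut.conjNormal x (e.symm (e m))) = _
    rw [e.symm_apply_apply]
  have hfix : ∀ (x : X) (m : M), ψ x (e m) = e m → Commute x (m : X) := fun x m hxm => by
    rw [hval] at hxm
    have := congrArg Subtype.val (e.injective hxm)
    rw [MulAut.conjNormal_apply] at this
    exact mul_inv_eq_iff_eq_mul.1 this
  refine ⟨⟨e, ψ, (injective_iff_map_eq_one ψ).2 fun x hx => ?_, fun m => ?_, hfix⟩⟩
  · rw [← Subgroup.mem_bot, ← hC, Subgroup.mem_centralizer_iff]
    exact fun m hm => (hfix x ⟨m, hm⟩ (by rw [hx]; rfl)).eq.symm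
  · refine MulEquiv.ext fun p => ?_
    obtain ⟨k, rfl⟩ := e.surjective p
    rw [hval, MulAut.conj_apply, ← map_inv, ← map_mul, ← map_mul]
    exact congrArg e (Subtype.ext (by rw [MulAut.conjNormal_apply]; simp))

namespace Act

variable {M : Subgroup X} {P : Type*} [Group P] (A : Act M P)

theorem mem_of_inner {x : X} {p : P} (h : A.ψ x = MulAut.conj p) : x ∈ M := by
  rw [A.inj (h.trans (by rw [← A.e.apply_symm_apply p]; exact (A.inner _).symm))]
  exact (A.e.symm p).2

theorem exists_shift {x : X} {p : P} {β : MulAut P} (h : A.ψ x = MulAut.conj p * β) :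
    ∃ v, A.ψ v = β ∧ (v ∈ M → x ∈ M) := by
  refine ⟨(A.e.symm p : X)⁻¹ * x, ?_, fun hv => ?_⟩
  · rw [map_mul, map_inv, A.inner, A.e.apply_symm_apply, h, inv_mul_cancel_left]
  · simpa using mul_mem (A.e.symm p).2 hv

theorem orderOf_eq (x : X) : orderOf x = orderOf (A.ψ x) := (orderOf_injective A.ψ A.inj x).symm

end Act

section PSL

variable {F : Type*} [Field F]

local notation "S2" => Matrix.SpecialLinearGroup (Fin 2) F
local notation "PS" => Matrix.ProjectiveSpecialLinearGroup (Fin 2) F

/-- The element inducing `-1 / x`. -/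
def swapSL (F : Type*) [Field F] : Matrix.SpecialLinearGroup (Fin 2) F :=
  ⟨!![0, 1; -1, 0], by simp [Matrix.det_fin_two]⟩

/-- An element of projective order three with entries in the prime field. -/
def threeSL (F : Type*) [Field F] : Matrix.SpecialLinearGroup (Fin 2) F :=
  ⟨!![0, -1; 1, 1], by simp [Matrix.det_fin_two]⟩

theorem mk_ne_one {s : S2} {i j : Fin 2} (hij : i ≠ j) (h : (s : Matrix (Fin 2) (Fin 2) F) i j ≠ 0) :
    (QuotientGroup.mk s : PS) ≠ 1 := fun e => by
  obtain ⟨a, ha⟩ := CfsgLib.KnownB.SL2.mk_eq_one_iff.1 e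
  rw [ha, Matrix.smul_apply, Matrix.one_apply_ne hij, smul_zero] at h
  exact h rfl

theorem orderOf_swap : orderOf (QuotientGroup.mk (swapSL F) : PS) = 2 := by
  refine orderOf_eq_prime ?_ (mk_ne_one (i := 0) (j := 1) (by decide) (by simp [swapSL]))
  rw [← QuotientGroup.mk_pow]
  refine CfsgLib.KnownB.SL2.mk_eq_one_iff.2 ⟨-1, ?_⟩
  rw [pow_two, Matrix.SpecialLinearGroup.coe_mul]
  ext i j
  fin_cases i <;> fin_cases j <;> simp [swapSL]

theorem orderOf_three : orderOf (QuotientGroup.mk (threeSL F) : PS) = 3 := by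
  haveI : Fact (Nat.Prime 3) := ⟨Nat.prime_three⟩
  refine orderOf_eq_prime ?_ (mk_ne_one (i := 1) (j := 0) (by decide) (by simp [threeSL]))
  rw [← QuotientGroup.mk_pow]
  refine CfsgLib.KnownB.SL2.mk_eq_one_iff.2 ⟨-1, ?_⟩
  rw [pow_three, Matrix.SpecialLinearGroup.coe_mul, Matrix.SpecialLinearGroup.coe_mul]
  ext i j
  fin_cases i <;> fin_cases j <;> simp [threeSL]

theorem semiAut_fix_swap (σ : F ≃+* F) :
    semiAut (1 : GL (Fin 2) F) σ (QuotientGroup.mk (swapSL F)) = QuotientGroup.mk (swapSL F) := by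
  rw [semiAut_mk, map_one]
  refine congrArg _ (Subtype.ext ?_)
  show (slField σ (swapSL F)).1 = _
  rw [slField_coe]
  ext i j
  fin_cases i <;> fin_cases j <;> simp [swapSL]

theorem semiAut_fix_three (σ : F ≃+* F) :
    semiAut (1 : GL (Fin 2) F) σ (QuotientGroup.mk (threeSL F)) = QuotientGroup.mk (threeSL F) := by
  rw [semiAut_mk, map_one]
  refine congrArg _ (Subtype.ext ?_)
  show (slField σ (threeSL F)).1 = _
  rw [slField_coe]
  ext i j
  fin_cases i <;> fin_cases j <;> simp [threeSL]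

/-- Two semilinear automorphisms whose determinants differ by a square differ by an inner one. -/
theorem exists_conj_semiAut {g g₀ : GL (Fin 2) F} (σ : F ≃+* F) {c : Fˣ}
    (hd : GeneralLinearGroup.det g = c ^ 2 * GeneralLinearGroup.det g₀) :
    ∃ p : PS, semiAut g σ = MulAut.conj p * semiAut g₀ σ := by
  set h : GL (Fin 2) F := g * g₀⁻¹ with hh
  have hdet : GeneralLinearGroup.det h = c ^ 2 := by
    rw [hh, map_mul, map_inv, hd, mul_inv_cancel_right]
  have hdet' : (h.1).det = (c : F) ^ 2 := by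
    have := congrArg Units.val hdet
    simpa using this
  let s : S2 := ⟨((c⁻¹ : Fˣ) : F) • h.1, by
    rw [Matrix.det_smul, Fintype.card_fin, hdet', ← mul_pow, ← Units.val_mul, inv_mul_cancel]
    simp⟩
  refine ⟨QuotientGroup.mk s, ?_⟩
  rw [conj_eq_semiAut, show semiAut g σ = semiAut h (RingEquiv.refl F) * semiAut g₀ σ by
    rw [semiAut_mul, hh]
    congr 1
    exact (inv_mul_cancel_right g g₀).symm]
  congr 1
  refine (semiAut_eq_iff le_rfl _ _ _ _).2 ⟨rfl, ?_⟩
  rw [Subgroup.mem_center_iff]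
  intro k
  have e : (SpecialLinearGroup.toGL s)⁻¹ * h = GeneralLinearGroup.scalar (Fin 2) c := by
    rw [inv_mul_eq_iff_eq_mul]
    refine Units.ext ?_
    rw [Units.val_mul]
    show h.1 = (((c⁻¹ : Fˣ) : F) • h.1) * (GeneralLinearGroup.scalar (Fin 2) c).1
    rw [show (GeneralLinearGroup.scalar (Fin 2) c).1 = (c : F) • (1 : Matrix (Fin 2) (Fin 2) F) by
      simp [GeneralLinearGroup.scalar, Matrix.smul_one_eq_diagonal], mul_smul_comm, mul_one, smul_smul,
      ← Units.val_mul, mul_inv_cancel, Units.val_one, one_smul]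
  rw [e]
  refine Units.ext ?_
  simp [GeneralLinearGroup.scalar, Matrix.smul_one_eq_diagonal, ← Matrix.smul_one_eq_diagonal]

theorem semiAut_eq_one_iff {g : GL (Fin 2) F} :
    semiAut g (RingEquiv.refl F) = 1 ↔ g ∈ Subgroup.center (GL (Fin 2) F) := by
  rw [← semiAut_one, semiAut_eq_iff le_rfl, inv_one, one_mul]
  exact and_iff_right rfl

theorem semiAut_refl_pow (g : GL (Fin 2) F) (k : ℕ) :
    semiAut g (RingEquiv.refl F) ^ k = semiAut (g ^ k) (RingEquiv.refl F) := by
  induction k with
  | zero => rw [pow_zero, pow_zero, semiAut_one]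
  | succ k ih =>
    rw [pow_succ, ih, semiAut_mul, pow_succ]
    congr 1

end PSL

end CfsgLib.Recog.ThreeOrders
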