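import Cfsg.Agent.Lib.Comp.Subnormal
import Cfsg.Agent.Lib.Invol.CIT.Basic
import Cfsg.Agent.Lib.Solvable.MinNormal
import Cfsg.Agent.Lib.FT.OddOrder
import Cfsg.Prelude.Def_RootSubgroups

/-!
# The simple socle of a group with solvable involution centralisers and trivial solvable radical
-/

set_option autoImplicit false
set_option linter.unusedSectionVars false
set_option linter.style.haveILetI false

namespace CfsgLib.Recog.ThreeOrders

open Subgroup CfsgLib.Invol

universe u

variable {G : Type u} [Group G] [Finite G]

/-- The centraliser of every involution is solvable. -/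
def IsICS (G : Type u) [Group G] : Prop :=
  ∀ t : G, orderOf t = 2 → Group.IsSolvable (centralizer ({t} : Set G))

theorem radical_spec :
    (Cfsg.solvableRadical G).Normal ∧ Group.IsSolvable ↥(Cfsg.solvableRadical G) :=
  CfsgLib.Solvable.sSup_induction_normal (P := fun N : Subgroup G => Group.IsSolvable N) inferInstance
    (fun _ _ _ hB h1 h2 => by
      have := hB
      exact CfsgLib.Comp.isSolvable_sup (CfsgLib.Comp.le_normalizer_of_normal' _ _) h1 h2)
    _ fun _ h => h

theorem radical_characteristic : (Cfsg.solvableRadical G).Characteristic :=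
  Subgroup.characteristic_iff_map_eq.2 fun φ => by
    refine CfsgLib.Solvable.eq_of_le_of_card_le (le_sSup ⟨?_, ?_⟩) ?_
    · exact radical_spec.1.map _ φ.surjective
    · have := (radical_spec (G := G)).2
      exact Group.isSolvable_of_surjective
        (f := ((φ.toMonoidHom).subgroupMap (Cfsg.solvableRadical G)))
        (MonoidHom.subgroupMap_surjective _ _)
    · rw [Subgroup.card_map_of_injective φ.injective]

/-- A nonsolvable subgroup commutes with no involution. -/
theorem not_commute (hIC : IsICS G) {H : Subgroup G} (hH : ¬ Group.IsSolvable H) {c : G}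
    (hc : orderOf c = 2) : ¬ ∀ h ∈ H, Commute h c := fun h => by
  have := hIC c hc
  exact hH (Group.isSolvable_of_isSolvable_injective
    (inclusion_injective (show H ≤ centralizer ({c} : Set G) from
      fun x hx => mem_centralizer_singleton_iff.2 (h x hx))))

theorem odd_centralizer (hIC : IsICS G) {H : Subgroup G} (hH : ¬ Group.IsSolvable H) :
    Odd (Nat.card (centralizer (H : Set G))) := by
  rw [← Nat.not_even_iff_odd]
  intro he
  haveI : Fact (Nat.Prime 2) := ⟨Nat.prime_two⟩
  obtain ⟨⟨c, hc⟩, hc2⟩ :=
    exists_prime_orderOf_dvd_card' (G := centralizer (H : Set G)) 2 (even_iff_two_dvd.1 he)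
  rw [Subgroup.orderOf_mk] at hc2
  exact not_commute hIC hH hc2 fun h hh => mem_centralizer_iff.1 hc h hh

/-- A simple normal subgroup with trivial centraliser. -/
theorem exists_socle (hns : ¬ Group.IsSolvable G) (hIC : IsICS G)
    (hrad : ∀ N : Subgroup G, N.Normal → Group.IsSolvable N → N = ⊥) :
    ∃ M : Subgroup G, M.Normal ∧ IsSimpleGroup M ∧ ¬ Group.IsSolvable M ∧
      centralizer (M : Set G) = ⊥ := by
  classical
  have : Nontrivial G := by
    by_contra hc
    rw [not_nontrivial_iff_subsingleton] at hc
    exact hns inferInstance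
  obtain ⟨M, hMn, hM1, hmin⟩ := CfsgLib.Solvable.exists_minimal_normal (G := G)
  have hMs : ¬ Group.IsSolvable M := fun h => hM1 (hrad M hMn h)
  have hodd : ∀ {K : Subgroup G}, ¬ Group.IsSolvable K → Group.IsSolvable (centralizer (K : Set G)) :=
    fun hK => CfsgLib.FT.odd_order_solvable (odd_centralizer hIC hK)
  have hC : centralizer (M : Set G) = ⊥ := hrad _ Subgroup.normal_centralizer (hodd hMs)
  refine ⟨M, hMn, ?_, hMs, hC⟩
  -- no solvable normal subgroup in `M`
  have hradM : ∀ N : Subgroup M, N.Normal → Group.IsSolvable N → N = ⊥ := by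
    intro N hN hs
    haveI := radical_characteristic (G := M)
    have hr : (Cfsg.solvableRadical M).map M.subtype = ⊥ := by
      refine hrad _ inferInstance ?_
      have := (radical_spec (G := M)).2
      exact Group.isSolvable_of_surjective
        (f := (M.subtype).subgroupMap (Cfsg.solvableRadical M)) (MonoidHom.subgroupMap_surjective _ _)
    rw [Subgroup.map_eq_bot_iff_of_injective _ M.subtype_injective] at hr
    exact le_bot_iff.1 (hr ▸ le_sSup ⟨hN, hs⟩)
  haveI : Nontrivial M := (Subgroup.nontrivial_iff_ne_bot M).2 hM1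
  obtain ⟨N, hNn, hN1, hNmin⟩ := CfsgLib.Solvable.exists_minimal_normal (G := M)
  -- every non-trivial normal subgroup of `M` meets the others
  have key : ∀ K L : Subgroup M, K.Normal → L.Normal → K ≠ ⊥ → L ≠ ⊥ → K ⊓ L ≠ ⊥ := by
    intro K L hK hL hK1 hL1 hKL
    have hKs : ¬ Group.IsSolvable K := fun h => hK1 (hradM K hK h)
    have hLs : ¬ Group.IsSolvable L := fun h => hL1 (hradM L hL h)
    refine hLs ?_
    have hle : L.map M.subtype ≤ centralizer ((K.map M.subtype : Subgroup G) : Set G) := by
      rintro _ ⟨l, hl, rfl⟩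
      refine mem_centralizer_iff.2 ?_
      rintro _ ⟨k, hk, rfl⟩
      have h1 : k * l * k⁻¹ * l⁻¹ ∈ K ⊓ L := by
        refine Subgroup.mem_inf.2 ⟨?_, mul_mem (hL.conj_mem l hl k) (inv_mem hl)⟩
        rw [show k * l * k⁻¹ * l⁻¹ = k * (l * k⁻¹ * l⁻¹) by group]
        exact mul_mem hk (hK.conj_mem _ (inv_mem hk) l)
      rw [hKL, Subgroup.mem_bot, mul_inv_eq_one, mul_inv_eq_iff_eq_mul] at h1
      exact congrArg Subtype.val h1
    have hK' : ¬ Group.IsSolvable (K.map M.subtype) := fun h => hKs
      (Group.isSolvable_of_isSolvable_injective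
        (f := (K.equivMapOfInjective _ M.subtype_injective).toMonoidHom) (MulEquiv.injective _))
    have := hodd hK'
    have : Group.IsSolvable (L.map M.subtype) :=
      Group.isSolvable_of_isSolvable_injective (inclusion_injective hle)
    exact Group.isSolvable_of_isSolvable_injective
      (f := (L.equivMapOfInjective _ M.subtype_injective).toMonoidHom) (MulEquiv.injective _)
  have hNchar : N.Characteristic := by
    refine Subgroup.characteristic_iff_map_eq.2 fun φ => ?_
    have hn' : (N.map φ.toMonoidHom).Normal := hNn.map _ φ.surjective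
    have h1 : N.map φ.toMonoidHom ≠ ⊥ := fun e =>
      hN1 ((Subgroup.map_eq_bot_iff_of_injective _ φ.injective).1 e)
    rcases hNmin (N.map φ.toMonoidHom ⊓ N) inferInstance inf_le_right with e | e
    · exact absurd e (key _ _ hn' hNn h1 hN1)
    · exact (CfsgLib.Solvable.eq_of_le_of_card_le (inf_eq_right.1 e)
        (by rw [Subgroup.card_map_of_injective φ.injective])).symm
  have hNM : N = ⊤ := by
    rcases hmin (N.map M.subtype) inferInstance (Subgroup.map_subtype_le _) with e | e
    · exact absurd ((Subgroup.map_eq_bot_iff_of_injective _ M.subtype_injective).1 e) hN1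
    · refine Subgroup.map_injective M.subtype_injective ?_
      rw [e, ← MonoidHom.range_eq_map, Subgroup.range_subtype]
  refine ⟨fun K hK => ?_⟩
  rcases hNmin K hK (hNM ▸ le_top) with e | e
  · exact Or.inl e
  · exact Or.inr (e.trans hNM)

end CfsgLib.Recog.ThreeOrders
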